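import Cfsg.Agent.H8.Deg3
import Cfsg.Agent.H1.Cores
import Cfsg.Agent.S0494
import Cfsg.Agent.S0495
import Cfsg.Agent.S0252
import Cfsg.Agent.S2119
import Cfsg.Agent.S4774
import Cfsg.Agent.S4812

/-! Groups of order 360, 504, 2520 with a smaller simple section. -/

set_option autoImplicit false

namespace Cfsg.Agent.DG6

open Cfsg Subgroup Cfsg.Agent.H8 Cfsg.Agent.H4

namespace P2

theorem end_mod {α : Type*} [Finite α] {p : ℕ} [Fact p.Prime] (f : α → α) (hf : f^[p] = id) :
    Nat.card α ≡ Nat.card {a // f a = a} [MOD p] := by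
  classical
  have := Fintype.ofFinite α
  have h := Equiv.Perm.card_fixedPoints_modEq (α := α) (f := f) (p := p) (n := 1) (by
    rw [pow_one]; exact hf)
  rw [← Nat.card_eq_fintype_card, ← Nat.card_eq_fintype_card] at h
  exact h

variable {T : Type*} [Group T] [Finite T]

theorem syl_card {q : ℕ} [hq : Fact q.Prime] (P : Sylow q T) (k m : ℕ) (h : Nat.card T = q ^ k * m)
    (hm : ¬ q ∣ m) : Nat.card (P : Subgroup T) = q ^ k := by
  rw [P.card_eq_multiplicity, h, Nat.factorization_mul (pow_ne_zero _ hq.out.ne_zero)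
    (by rintro rfl; exact hm (dvd_zero _)), hq.out.factorization_pow]
  simp [Nat.factorization_eq_zero_of_not_dvd hm]

/-- fixed points -/
def Fx (φ : MulAut T) : Subgroup T := φ.toMonoidHom.eqLocus (MonoidHom.id T)

theorem fix_mod {p : ℕ} [Fact p.Prime] {φ : MulAut T} (hφ : φ ^ p = 1) (P : Subgroup T)
    (hP : ∀ x ∈ P, φ x ∈ P) : Nat.card P ≡ Nat.card (P ⊓ Fx φ : Subgroup T) [MOD p] := by
  have h1 : ∀ (n : ℕ) (x : P), (((fun x : P => (⟨φ x, hP x x.2⟩ : P))^[n] x : P) : T) =
      (φ ^ n) x := by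
    intro n
    induction n with
    | zero => intro x; rfl
    | succ n ih => intro x; rw [Function.iterate_succ_apply', pow_succ']; simp only [ih]; rfl
  have h := end_mod (p := p) (fun x : P => (⟨φ x, hP x x.2⟩ : P))
    (funext fun x => Subtype.ext (by rw [h1, hφ]; rfl))
  refine h.trans (Nat.ModEq.refl _ |>.trans ?_)
  rw [Nat.card_congr (β := (P ⊓ Fx φ : Subgroup T))
    ⟨fun a => ⟨a.1.1, a.1.2, congrArg Subtype.val a.2⟩,
      fun a => ⟨⟨a.1, a.2.1⟩, Subtype.ext a.2.2⟩, fun _ => rfl, fun _ => rfl⟩]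

theorem inv_syl {p : ℕ} [Fact p.Prime] {φ : MulAut T} (hφ : φ ^ p = 1) (hp : ¬ p ∣ Nat.card T)
    (q : ℕ) [Fact q.Prime] : ∃ P : Sylow q T, ∀ x ∈ (P : Subgroup T), φ x ∈ (P : Subgroup T) := by
  have h := end_mod (p := p) (fun P : Sylow q T => φ • P)
    (by rw [smul_iterate, hφ]; exact funext fun P => one_smul _ P)
  obtain ⟨P0⟩ : Nonempty (Sylow q T) := inferInstance
  have hne : Nonempty {P : Sylow q T // φ • P = P} := by
    by_contra hn
    rw [not_nonempty_iff] at hn
    rw [Nat.card_of_isEmpty (α := {P : Sylow q T // φ • P = P})] at h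
    exact hp (((Nat.modEq_zero_iff_dvd.1 h).trans P0.card_dvd_index).trans (index_dvd_card _))
  obtain ⟨P, hP⟩ := hne
  refine ⟨P, fun x hx => ?_⟩
  have : φ • x ∈ ((φ • P : Sylow q T) : Subgroup T) := smul_mem_pointwise_smul x φ _ hx
  rwa [hP] at this

theorem seven [IsSimpleGroup T] (hT : Nat.card T = 60 ∨ Nat.card T = 360) {φ : MulAut T}
    (hφ : φ ^ 7 = 1) : φ = 1 := by
  have : Fact (Nat.Prime 7) := ⟨by norm_num⟩
  have : Fact (Nat.Prime 5) := ⟨by norm_num⟩
  have h7 : ¬ 7 ∣ Nat.card T := by rcases hT with h | h <;> rw [h] <;> norm_num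
  obtain ⟨P, hP⟩ := inv_syl hφ h7 5
  obtain ⟨Q, hQ⟩ := inv_syl hφ h7 3
  have cP : Nat.card (P : Subgroup T) = 5 := by
    rcases hT with h | h
    · exact syl_card P 1 12 h (by norm_num)
    · exact syl_card P 1 72 h (by norm_num)
  have cQ : (Nat.card T = 60 ∧ Nat.card (Q : Subgroup T) = 3) ∨
      (Nat.card T = 360 ∧ Nat.card (Q : Subgroup T) = 9) := by
    rcases hT with h | h
    · exact Or.inl ⟨h, syl_card Q 1 20 h (by norm_num)⟩
    · exact Or.inr ⟨h, syl_card Q 2 40 h (by norm_num)⟩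
  have m1 := fix_mod hφ _ hP
  have m2 := fix_mod hφ _ hQ
  have m3 := fix_mod hφ ⊤ fun _ _ => mem_top _
  rw [top_inf_eq, card_top] at m3
  have d1 : Nat.card (P ⊓ Fx φ : Subgroup T) ∣ Nat.card (P : Subgroup T) := card_dvd_of_le inf_le_left
  have d2 : Nat.card (Q ⊓ Fx φ : Subgroup T) ∣ Nat.card (Q : Subgroup T) := card_dvd_of_le inf_le_left
  have d3 : Nat.card (P ⊓ Fx φ : Subgroup T) ∣ Nat.card (Fx φ) := card_dvd_of_le inf_le_right
  have d4 : Nat.card (Q ⊓ Fx φ : Subgroup T) ∣ Nat.card (Fx φ) := card_dvd_of_le inf_le_right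
  have d5 : Nat.card (Fx φ) * (Fx φ).index = Nat.card T := card_mul_index _
  have e1 : Nat.card (P ⊓ Fx φ : Subgroup T) = 5 := by
    rw [cP] at m1 d1
    have := Nat.le_of_dvd (by norm_num) d1
    generalize Nat.card (P ⊓ Fx φ : Subgroup T) = a at *
    unfold Nat.ModEq at m1
    interval_cases a <;> omega
  have e2 : Nat.card (Q ⊓ Fx φ : Subgroup T) = Nat.card (Q : Subgroup T) := by
    rcases cQ with ⟨-, c⟩ | ⟨-, c⟩ <;> rw [c] at m2 d2 ⊢ <;>
      have := Nat.le_of_dvd (by norm_num) d2 <;>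
      generalize Nat.card (Q ⊓ Fx φ : Subgroup T) = a at * <;>
      unfold Nat.ModEq at m2 <;> interval_cases a <;> omega
  have key : (Fx φ).index = 1 ∨ ((Fx φ).index = 8 ∧ Nat.card (Fx φ) = 45) := by
    rw [e1] at d3
    rw [e2] at d4
    generalize Nat.card (Fx φ) = a at *
    generalize (Fx φ).index = j at *
    rcases cQ with ⟨c0, c⟩ | ⟨c0, c⟩ <;> rw [c] at d4 <;> rw [c0] at m3 d5
    · obtain ⟨b, rfl⟩ : 15 ∣ a := Nat.Coprime.mul_dvd_of_dvd_of_dvd (m := 5) (n := 3) (by norm_num) d3 d4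
      have : b ∣ 4 := ⟨j, by linarith⟩
      have := Nat.le_of_dvd (by norm_num) this
      unfold Nat.ModEq at m3
      interval_cases b <;> omega
    · obtain ⟨b, rfl⟩ : 45 ∣ a := Nat.Coprime.mul_dvd_of_dvd_of_dvd (m := 5) (n := 9) (by norm_num) d3 d4
      have : b ∣ 8 := ⟨j, by linarith⟩
      have := Nat.le_of_dvd (by norm_num) this
      unfold Nat.ModEq at m3
      interval_cases b <;> omega
  rcases key with k | ⟨k1, k2⟩
  · rw [index_eq_one] at k
    ext x
    exact (k ▸ mem_top x : x ∈ Fx φ)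
  · exfalso
    have hle : (P : Subgroup T) ≤ Fx φ :=
      inf_eq_left.1 (eq_of_le_of_card_ge inf_le_left (by rw [e1, cP]))
    have n1 : Nat.card (Sylow 5 (Fx φ)) = 1 := by
      have a1 := card_sylow_modEq_one 5 (Fx φ)
      have a2 := (P.subtype hle).card_dvd_index
      have a3 := card_mul_index ((P.subtype hle : Sylow 5 (Fx φ)) : Subgroup (Fx φ))
      rw [Sylow.coe_subtype, Nat.card_congr (subgroupOfEquivOfLe hle).toEquiv, cP, k2] at a3
      rw [Sylow.coe_subtype, show ((P : Subgroup T).subgroupOf (Fx φ)).index = 9 by omega] at a2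
      have := Nat.le_of_dvd (by norm_num) a2
      generalize Nat.card (Sylow 5 (Fx φ)) = a at *
      unfold Nat.ModEq at a1
      interval_cases a <;> omega
    have := (Nat.card_eq_one_iff_unique.1 n1).1
    have hn := (normal_subgroupOf_iff_le_normalizer hle).1 (P.subtype hle).normal_of_subsingleton
    have a1 := card_sylow_modEq_one 5 T
    have a2 := index_dvd_of_le hn
    rw [k1] at a2
    have a3 : (normalizer ((P : Subgroup T) : Set T)).index = 1 := by
      rw [P.card_eq_index_normalizer] at a1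
      have := Nat.le_of_dvd (by norm_num) a2
      change (normalizer ((P : Subgroup T) : Set T)).index ≡ 1 [MOD 5] at a1
      generalize (normalizer ((P : Subgroup T) : Set T)).index = a at *
      unfold Nat.ModEq at a1
      interval_cases a <;> omega
    rw [index_eq_one, normalizer_eq_top_iff] at a3
    rcases a3.eq_bot_or_eq_top with e | e <;> rw [e] at cP
    · simp at cP
    · rw [card_top] at cP; omega

theorem cd3 [IsSimpleGroup T] (hT : Nat.card T = 60) : 3 ∈ charDegrees T := by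
  obtain ⟨e⟩ := S0494.result hT
  have := Fintype.ofFinite (GaloisField 2 2)
  have h4 : Fintype.card (GaloisField 2 2) = 4 := by
    rw [← Nat.card_eq_fintype_card, GaloisField.card 2 2 (by norm_num)]; rfl
  obtain ⟨f⟩ := S0252.result h4
  obtain ⟨h1, h2⟩ := S4812.result (GaloisField 2 2) 4 h4 le_rfl (S := T) (Or.inl ⟨e.trans f.symm⟩)
  obtain ⟨-, d, hd, h3⟩ : 3 ∈ degreePrimes T := by rw [h1]; exact ⟨Nat.prime_three, by norm_num⟩
  obtain ⟨χ, hχ, e1⟩ := mem_cd.1 hd
  have h5 := (hχ.degree_sq_le_index_charCenter e1).trans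
    (Nat.le_of_dvd Nat.card_pos (index_dvd_card _))
  have h6 := pos_of_mem_cd hd
  rw [hT] at h5
  have h7 : d ≤ 7 := by nlinarith
  have h8 : d ≠ 6 := by
    rintro rfl
    have := (h2 2 3).1 ⟨by norm_num, Nat.prime_two, Nat.prime_three, 6, hd, by norm_num⟩
    omega
  obtain rfl : d = 3 := by omega
  exact hd

theorem not3 : 3 ∉ charDegrees (Equiv.Perm (Fin 5)) := by
  intro h
  obtain ⟨χ, hχ, e⟩ := mem_cd.1 h
  let x : Equiv.Perm (Fin 5) := finRotate 5
  have c : ∀ k : Fin 5, k ≠ 0 → ∃ g : Equiv.Perm (Fin 5), g * x * g⁻¹ = x ^ k.1 := by decide +kernel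
  have hc : ∀ k : Fin 5, k ≠ 0 → χ (x ^ k.1) = χ x := fun k hk =>
    (hχ.isCharacter.isClassFunction.of_isConj (isConj_iff.2 (c k hk))).symm
  obtain ⟨ε, h1, h2⟩ := hχ.isCharacter.exists_roots e x
  have h5 : ∀ i, ε i ^ 5 = 1 := fun i => by
    obtain ⟨m, hm⟩ : orderOf x ∣ 5 := orderOf_dvd_of_pow_eq_one (by decide +kernel)
    rw [hm, pow_mul, h1, one_pow]
  have p1 := h2 1
  have p2 := (hc 2 (by decide)).symm.trans (h2 2)
  have p3 := (hc 3 (by decide)).symm.trans (h2 3)
  have p4 := (hc 4 (by decide)).symm.trans (h2 4)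
  rw [pow_one] at p1
  simp only [Fin.sum_univ_three, pow_one] at p1 p2 p3 p4
  have hs : ∀ i, 1 + ε i + ε i ^ 2 + ε i ^ 3 + ε i ^ 4 = 0 ∨
      1 + ε i + ε i ^ 2 + ε i ^ 3 + ε i ^ 4 = 5 := fun i => by
    by_cases e1 : ε i = 1
    · right; rw [e1]; norm_num
    · left
      exact mul_left_cancel₀ (sub_ne_zero.2 e1) (by linear_combination h5 i)
  have e3 : ε 0 * ε 1 * ε 2 = χ x * (χ x - 1) * (χ x - 2) / 6 := by
    have q2 : ε 0 ^ 2 + ε 1 ^ 2 + ε 2 ^ 2 = ε 0 + ε 1 + ε 2 := p2.symm.trans p1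
    have q3 : ε 0 ^ 3 + ε 1 ^ 3 + ε 2 ^ 3 = ε 0 + ε 1 + ε 2 := p3.symm.trans p1
    rw [p1]
    linear_combination (-1 / 2 : ℂ) * (ε 0 + ε 1 + ε 2) * q2 + (1 / 3 : ℂ) * q3
  have e5 : (χ x * (χ x - 1) * (χ x - 2) / 6) ^ 5 = 1 := by
    rw [← e3, mul_pow, mul_pow, h5, h5, h5]; norm_num
  have ha : χ x = -3 / 4 ∨ χ x = 1 / 2 ∨ χ x = 7 / 4 ∨ χ x = 3 := by
    rcases hs 0 with a | a <;> rcases hs 1 with b | b <;> rcases hs 2 with c | c
    · left; linear_combination (p1 + p2 + p3 + p4 + a + b + c) / 4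
    · right; left; linear_combination (p1 + p2 + p3 + p4 + a + b + c) / 4
    · right; left; linear_combination (p1 + p2 + p3 + p4 + a + b + c) / 4
    · right; right; left; linear_combination (p1 + p2 + p3 + p4 + a + b + c) / 4
    · right; left; linear_combination (p1 + p2 + p3 + p4 + a + b + c) / 4
    · right; right; left; linear_combination (p1 + p2 + p3 + p4 + a + b + c) / 4
    · right; right; left; linear_combination (p1 + p2 + p3 + p4 + a + b + c) / 4
    · right; right; right; linear_combination (p1 + p2 + p3 + p4 + a + b + c) / 4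
  rcases ha with a | a | a | a
  · rw [a] at e5; norm_num at e5
  · rw [a] at e5; norm_num at e5
  · rw [a] at e5; norm_num at e5
  have hk : x ∈ charKer χ := hχ.isCharacter.mem_charKer.2 (by rw [a, e]; norm_num)
  have hn := hχ.isCharacter.charKer_normal
  have hx : x ∈ alternatingGroup (Fin 5) := Equiv.Perm.mem_alternatingGroup.2 (by decide +kernel)
  have hA : alternatingGroup (Fin 5) ≤ charKer χ := by
    rcases (hn.subgroupOf (alternatingGroup (Fin 5))).eq_bot_or_eq_top with e' | e'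
    · have : (⟨x, hx⟩ : alternatingGroup (Fin 5)) ∈ (charKer χ).subgroupOf _ := hk
      rw [e', mem_bot, Subtype.ext_iff] at this
      exact absurd (show finRotate 5 = 1 from this) (by decide +kernel)
    · exact subgroupOf_eq_top.1 e'
  have h9 := hχ.degree_sq_le_index_charCenter e
  have := Nat.le_of_dvd (by norm_num) ((index_dvd_of_le (hA.trans (charKer_le_charCenter χ))).trans
    (alternatingGroup.index_eq_two (α := Fin 5)).dvd)
  omega

theorem cd_perm : ∃ d ∈ charDegrees (Equiv.Perm (Fin 5)), 6 ∣ d := by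
  obtain ⟨e, he, h⟩ := cd_over_normal (alternatingGroup (Fin 5))
    (cd3 (T := alternatingGroup (Fin 5)) (by
      rw [Nat.card_eq_fintype_card]; decide +kernel))
  rw [alternatingGroup.index_eq_two] at he
  rcases (Nat.dvd_prime Nat.prime_two).1 he with rfl | rfl
  · exact absurd h not3
  · exact ⟨_, h, dvd_rfl⟩

end P2

open P2

variable {G : Type*} [Group G] [Finite G]

theorem adj23 {d : ℕ} (hd : d ∈ charDegrees G) (h : 6 ∣ d) : (degreeGraph G).Adj 2 3 :=
  ⟨by norm_num, Nat.prime_two, Nat.prime_three, d, hd, h⟩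

theorem conj_inj {p : ℕ} (hp : p.Prime) (h2 : ¬ p ^ 2 ∣ Nat.card G)
    (T : Subgroup (G ⧸ pPrimeCore p G)) [T.Normal] [IsSimpleGroup T] (h1 : p ∣ Nat.card T)
    (h3 : ¬ (Nat.card T).Prime) :
    Function.Injective (MulAut.conjNormal : G ⧸ pPrimeCore p G →* MulAut T) := by
  rw [← MonoidHom.ker_eq_bot_iff]
  set C := (MulAut.conjNormal : G ⧸ pPrimeCore p G →* MulAut T).ker
  have hCT : C.subgroupOf T = ⊥ := by
    refine (Normal.eq_bot_or_eq_top inferInstance).resolve_right fun e => h3 ?_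
    let _ : CommGroup T := { (inferInstance : Group T) with
      mul_comm := fun a b => by
        have ha : a ∈ C.subgroupOf T := e ▸ mem_top a
        have := congrArg (fun φ : MulAut T => ((φ b : T) : G ⧸ pPrimeCore p G))
          (MonoidHom.mem_ker.1 (mem_subgroupOf.1 ha))
        simp only [MulAut.conjNormal_apply, MulAut.one_apply] at this
        exact Subtype.ext (mul_inv_eq_iff_eq_mul.1 this) }
    exact IsSimpleGroup.prime_card
  have hd : Nat.card C ∣ T.index := card_dvd_of_injective ((QuotientGroup.mk' T).comp C.subtype)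
    ((injective_iff_map_eq_one _).2 fun a ha => by
      have ha' : (a : G ⧸ pPrimeCore p G) ∈ T := (QuotientGroup.eq_one_iff _).1 ha
      have : (⟨a, ha'⟩ : T) ∈ C.subgroupOf T := a.2
      rw [hCT, mem_bot, Subtype.ext_iff] at this
      exact Subtype.ext this)
  rw [eq_bot_iff, ← H1.pPrimeCore_quotient_pPrimeCore (G := G) p]
  refine H1.le_pPrimeCore (Nat.Coprime.symm (hp.coprime_iff_not_dvd.2 fun e => h2 ?_))
  refine Dvd.dvd.trans ?_ (card_quotient_dvd_card (pPrimeCore p G))
  rw [← card_mul_index T, sq]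
  exact mul_dvd_mul h1 (e.trans hd)

theorem g504 (_hn : Nat.card G = 504) (T : Subgroup (G ⧸ pPrimeCore 7 G)) [T.Normal]
    [IsSimpleGroup T] (hT : Nat.card T = 168) (h23 : ¬ (degreeGraph G).Adj 2 3) : False := by
  have : Fact (Nat.Prime 7) := ⟨by norm_num⟩
  obtain ⟨-, -, -, d, hd, h⟩ := ((S4774.result (ZMod 7) 7 (by norm_num) 7 (ZMod.card 7)
    (by norm_num) (S := T) (Or.inl (S0495.result hT (ZMod.card 7)))).2 2 3).2
      ⟨by norm_num, Nat.prime_two, Nat.prime_three, by norm_num, by norm_num, Or.inl rfl⟩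
  obtain ⟨e, -, he⟩ := cd_over_normal T hd
  exact h23 (adj23 (cd_quotient_subset _ he) (h.trans (dvd_mul_left _ _)))

theorem g2520 (hn : Nat.card G = 2520) (T : Subgroup (G ⧸ pPrimeCore 5 G)) [T.Normal]
    [IsSimpleGroup T] (hT : Nat.card T = 60 ∨ Nat.card T = 360) (h7 : 7 ∈ degreePrimes G) :
    False := by
  have : Fact (Nat.Prime 7) := ⟨by norm_num⟩
  have hi := conj_inj (p := 5) (by norm_num) (by rw [hn]; norm_num) T
    (by rcases hT with h | h <;> rw [h] <;> norm_num) (by rcases hT with h | h <;> rw [h] <;> norm_num)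
  have e1 := card_eq_card_quotient_mul_card_subgroup (pPrimeCore 5 G)
  have n7 : ¬ 7 ∣ Nat.card (G ⧸ pPrimeCore 5 G) := fun e => by
    obtain ⟨y, hy⟩ := exists_prime_orderOf_dvd_card' 7 e
    have := seven hT (φ := MulAut.conjNormal y) (by rw [← map_pow, ← hy, pow_orderOf_eq_one, map_one])
    rw [← map_one MulAut.conjNormal] at this
    rw [hi this, orderOf_one] at hy
    omega
  have e2 : Nat.card (pPrimeCore 5 G) ∣ 42 := by
    obtain ⟨c, hc⟩ : 60 ∣ Nat.card (G ⧸ pPrimeCore 5 G) :=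
      Dvd.dvd.trans (by rcases hT with h | h <;> rw [h] <;> norm_num) (card_subgroup_dvd_card T)
    exact ⟨c, by rw [hn, hc] at e1; linarith⟩
  have e3 : 7 ∣ Nat.card (pPrimeCore 5 G) :=
    ((Nat.Prime.dvd_mul (by norm_num)).1 (e1 ▸ hn ▸ (by norm_num : 7 ∣ 2520))).resolve_left n7
  obtain ⟨P⟩ : Nonempty (Sylow 7 (pPrimeCore 5 G)) := inferInstance
  have cP : Nat.card (P : Subgroup (pPrimeCore 5 G)) = 7 := by
    obtain ⟨c, hc⟩ := e3
    refine syl_card P 1 c hc ?_
    rintro ⟨c, rfl⟩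
    rw [hc, ← mul_assoc] at e2
    exact absurd (dvd_of_mul_right_dvd e2) (by norm_num)
  have n1 : Nat.card (Sylow 7 (pPrimeCore 5 G)) = 1 := by
    have a1 := card_sylow_modEq_one 7 (pPrimeCore 5 G)
    have a2 := P.card_dvd_index
    have a3 := card_mul_index (P : Subgroup (pPrimeCore 5 G))
    rw [cP] at a3
    rw [← a3] at e2
    have a4 : Nat.card (Sylow 7 (pPrimeCore 5 G)) ∣ 6 :=
      a2.trans (Nat.dvd_of_mul_dvd_mul_left (by norm_num : 0 < 7) e2)
    have := Nat.le_of_dvd (by norm_num) a4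
    generalize Nat.card (Sylow 7 (pPrimeCore 5 G)) = a at *
    unfold Nat.ModEq at a1
    interval_cases a <;> omega
  have := (Nat.card_eq_one_iff_unique.1 n1).1
  have hch := P.characteristic_of_normal P.normal_of_subsingleton
  set A := (P : Subgroup (pPrimeCore 5 G)).map (pPrimeCore 5 G).subtype
  have cA : Nat.card A = 7 := by rw [card_map_of_injective (subtype_injective _), cP]
  have := isCyclic_of_prime_card cA
  obtain ⟨-, d, hd, h⟩ := h7
  have a1 := cd_dvd_index_of_comm (A := A) (fun a ha b hb =>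
    congrArg Subtype.val (IsCyclic.commGroup.mul_comm (⟨a, ha⟩ : A) ⟨b, hb⟩)) hd
  have a2 := card_mul_index A
  rw [cA, hn] at a2
  have := h.trans a1
  omega

theorem g360 (hn : Nat.card G = 360) (T : Subgroup (G ⧸ pPrimeCore 5 G)) [T.Normal]
    [IsSimpleGroup T] (hT : Nat.card T = 60) (h25 : (degreeGraph G).Adj 2 5)
    (h23 : ¬ (degreeGraph G).Adj 2 3) : False := by
  have : Fact (Nat.Prime 5) := ⟨by norm_num⟩
  have hi := conj_inj (p := 5) (by norm_num) (by rw [hn]; norm_num) T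
    (by rw [hT]; norm_num) (by rw [hT]; norm_num)
  obtain ⟨e⟩ := S0494.result hT
  let f0 : MulAut T ≃* Equiv.Perm (Fin 5) := (MulAut.congr e).trans (MulEquiv.ofBijective _
      (S2119.result 5 (by norm_num) (by norm_num))).symm
  let f : G ⧸ pPrimeCore 5 G →* Equiv.Perm (Fin 5) := f0.toMonoidHom.comp MulAut.conjNormal
  have hf : Function.Injective f := fun a b h => hi (f0.injective h)
  have c5 : Nat.card (Equiv.Perm (Fin 5)) = 120 := by
    rw [Nat.card_eq_fintype_card, Fintype.card_perm]; rfl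
  have d1 := card_dvd_of_injective f hf
  have d2 := card_subgroup_dvd_card T
  rw [c5] at d1
  rw [hT] at d2
  obtain hb | hb : Nat.card (G ⧸ pPrimeCore 5 G) = 120 ∨ Nat.card (G ⧸ pPrimeCore 5 G) = 60 := by
    obtain ⟨c, hc⟩ := d2
    rw [hc] at d1 ⊢
    have := Nat.le_of_dvd (by norm_num) d1
    have : c ≤ 2 := by omega
    interval_cases c <;> omega
  · obtain ⟨d, hd, h⟩ := cd_perm
    rw [← cd_congr (MulEquiv.ofBijective f ((Nat.bijective_iff_injective_and_card f).2
      ⟨hf, hb.trans c5.symm⟩))] at hd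
    exact h23 (adj23 (cd_quotient_subset _ hd) h)
  set N := pPrimeCore 5 G
  have hTt : T = ⊤ := eq_top_of_card_eq T (hT.trans hb.symm)
  subst hTt
  have : IsSimpleGroup (G ⧸ N) := topEquiv.symm.isSimpleGroup
  have e1 := card_eq_card_quotient_mul_card_subgroup N
  have cN : Nat.card N = 6 := by rw [hn, hb] at e1; omega
  set C := (MulAut.conjNormal : G →* MulAut N).ker with hC
  have hCc : ∀ x ∈ C, ∀ n ∈ N, x * n = n * x := fun x hx n hn' => by
    have := congrArg (fun φ : MulAut N => ((φ ⟨n, hn'⟩ : N) : G)) (MonoidHom.mem_ker.1 hx)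
    simp only [MulAut.conjNormal_apply, MulAut.one_apply] at this
    exact mul_inv_eq_iff_eq_mul.1 this
  have hCc' : ∀ x, (∀ n ∈ N, x * n = n * x) → x ∈ C := fun x hx =>
    MonoidHom.mem_ker.2 (MulEquiv.ext fun n => Subtype.ext (by
      rw [MulAut.conjNormal_apply, hx n n.2, mul_inv_cancel_right]; rfl))
  obtain ⟨x, hx⟩ := exists_prime_orderOf_dvd_card' (G := G) 5 (by rw [hn]; norm_num)
  have hxC : x ∈ C := by
    have hφ : (MulAut.conjNormal x : MulAut N) ^ 5 = 1 := by
      rw [← map_pow, orderOf_dvd_iff_pow_eq_one.1 hx.dvd, map_one]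
    obtain ⟨Q, hQ⟩ := inv_syl hφ (by rw [cN]; norm_num) 3
    have cQ : Nat.card (Q : Subgroup N) = 3 := syl_card Q 1 2 cN (by norm_num)
    have m2 := fix_mod hφ _ hQ
    have m3 := fix_mod hφ ⊤ fun _ _ => mem_top _
    rw [top_inf_eq, card_top, cN] at m3
    have d2 : Nat.card (Q ⊓ Fx (MulAut.conjNormal x) : Subgroup N) ∣ Nat.card (Q : Subgroup N) :=
      card_dvd_of_le inf_le_left
    have d4 : Nat.card (Q ⊓ Fx (MulAut.conjNormal x) : Subgroup N) ∣
      Nat.card (Fx (MulAut.conjNormal x : MulAut N)) := card_dvd_of_le inf_le_right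
    have d5 := card_subgroup_dvd_card (Fx (MulAut.conjNormal x : MulAut N))
    rw [cQ] at m2 d2
    rw [cN] at d5
    have k : Nat.card (Fx (MulAut.conjNormal x : MulAut N)) = 6 := by
      have := Nat.le_of_dvd (by norm_num) d2
      have := Nat.le_of_dvd (by norm_num) d5
      generalize Nat.card (Fx (MulAut.conjNormal x : MulAut N)) = a at *
      generalize Nat.card (Q ⊓ Fx (MulAut.conjNormal x) : Subgroup N) = b at *
      unfold Nat.ModEq at m2 m3
      interval_cases b <;> interval_cases a <;> omega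
    have k' := eq_top_of_card_eq _ (k.trans cN.symm)
    exact MonoidHom.mem_ker.2 (MulEquiv.ext fun n => (k' ▸ mem_top n : n ∈ Fx _))
  have hsur : Function.Surjective ((QuotientGroup.mk' N).comp C.subtype) := by
    rw [← MonoidHom.range_eq_top, MonoidHom.range_comp, range_subtype]
    refine (Normal.eq_bot_or_eq_top (Normal.map inferInstance _
      (QuotientGroup.mk'_surjective N))).resolve_left fun e => ?_
    have : QuotientGroup.mk' N x ∈ C.map (QuotientGroup.mk' N) := mem_map_of_mem _ hxC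
    rw [e, mem_bot] at this
    have := orderOf_dvd_natCard N ((QuotientGroup.eq_one_iff x).1 this)
    rw [hx, cN] at this
    omega
  have hCN : ∀ g : G, ∃ c ∈ C, ∃ n ∈ N, g = c * n := fun g => by
    obtain ⟨c, hc⟩ := hsur (g : G ⧸ N)
    exact ⟨c, c.2, c.1⁻¹ * g, QuotientGroup.eq.1 hc, by group⟩
  by_cases hab : ∀ a ∈ N, ∀ b ∈ N, a * b = b * a
  · obtain ⟨-, -, -, d, hd, h⟩ := h25
    obtain ⟨χ, hχ, e2⟩ := mem_cd.1 hd
    have a1 := hχ.degree_sq_le_index_charCenter e2
    have hZ : N ≤ center G := fun n hn' => mem_center_iff.2 fun g => by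
      obtain ⟨c, hc, m, hm, rfl⟩ := hCN g
      rw [mul_assoc, hab m hm n hn', ← mul_assoc, hCc c hc n hn', mul_assoc]
    have a2 := Nat.le_of_dvd (by rw [index_eq_card, hb]; norm_num)
      (index_dvd_of_le (hZ.trans hχ.center_le_charCenter))
    rw [index_eq_card N, hb] at a2
    have := Nat.le_of_dvd (pos_of_mem_cd hd) h
    nlinarith
  · let g : N →* G ⧸ C := (QuotientGroup.mk' C).comp N.subtype
    have hg : Function.Surjective g := fun y => by
      obtain ⟨y, rfl⟩ := QuotientGroup.mk_surjective y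
      obtain ⟨c, hc, n, hn', rfl⟩ := hCN y
      refine ⟨⟨n, hn'⟩, ?_⟩
      change (n : G ⧸ C) = _
      rw [QuotientGroup.mk_mul, (QuotientGroup.eq_one_iff c).2 hc, one_mul]
    have hk : g.ker ≤ center N := fun n hn' => mem_center_iff.2 fun m =>
      Subtype.ext (hCc n ((QuotientGroup.eq_one_iff _).1 hn') m m.2).symm
    have q1 := card_dvd_of_surjective g hg
    rw [cN] at q1
    have nc : ¬ IsCyclic (G ⧸ C) := fun _ => hab fun a ha b hb' =>
      congrArg Subtype.val ((g.isMulCommutative_of_isCyclic_of_ker_le_center hk).is_comm.comm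
        ⟨a, ha⟩ ⟨b, hb'⟩)
    have q6 : Nat.card (G ⧸ C) = 6 := by
      by_contra q
      apply nc
      have := Nat.le_of_dvd (by norm_num) q1
      have h3 : Nat.card (G ⧸ C) = 1 ∨ Nat.card (G ⧸ C) = 2 ∨ Nat.card (G ⧸ C) = 3 := by
        generalize Nat.card (G ⧸ C) = a at q q1 this ⊢
        interval_cases a <;> omega
      rcases h3 with h | h | h
      · have := (Nat.card_eq_one_iff_unique.1 h).1
        infer_instance
      · exact isCyclic_of_prime_card (p := 2) h
      · exact isCyclic_of_prime_card (p := 3) h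
    have hgi := ((Nat.bijective_iff_surjective_and_card g).2 ⟨hg, cN.trans q6.symm⟩).1
    obtain ⟨d, hd, d1⟩ : ∃ d ∈ charDegrees (G ⧸ C), d ≠ 1 := by
      by_contra! q
      exact hab fun a ha b hb' => congrArg Subtype.val (hgi (show g (⟨a, ha⟩ * ⟨b, hb'⟩) =
        g (⟨b, hb'⟩ * ⟨a, ha⟩) by rw [map_mul, map_mul, comm_iff_cd.2 q]))
    obtain rfl : d = 2 := by
      obtain ⟨χ, hχ, e2⟩ := mem_cd.1 hd
      have a1 := (hχ.degree_sq_le_index_charCenter e2).trans
        (Nat.le_of_dvd Nat.card_pos (index_dvd_card _))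
      have := pos_of_mem_cd hd
      rw [q6] at a1
      have : d ≤ 2 := by nlinarith
      omega
    obtain ⟨θ, hθ, e3⟩ := mem_cd.1 (cd3 hb)
    exact h23 (adj23 (cd_mul_of_res_irr C (hθ.comp_of_surjective _ (QuotientGroup.mk'_surjective N))
      (hθ.comp_of_surjective _ hsur) (d := 3) (by simpa using e3) hd) dvd_rfl)

end Cfsg.Agent.DG6
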