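import Cfsg.Agent.S0983
import Cfsg.Agent.S0496

set_option autoImplicit false
open Cfsg Subgroup

namespace Cfsg.Agent.DG6

open Cfsg.Agent.H19

namespace PO6

variable {G : Type*} [Group G] [Finite G]

theorem card25 [Fact (Nat.Prime 5)] (P : Sylow 5 G) {m : ℕ} (h : Nat.card G = 25 * m)
    (hm : ¬ 5 ∣ m) : Nat.card (P : Subgroup G) = 25 := by
  have hm0 : m ≠ 0 := by rintro rfl; simp at hm
  rw [P.card_eq_multiplicity, h, show 25 = 5 ^ 2 by norm_num,
    Nat.factorization_mul (by norm_num) hm0, (by norm_num : Nat.Prime 5).factorization_pow,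
    Finsupp.add_apply, Finsupp.single_eq_same, Nat.factorization_eq_zero_of_not_dvd hm]

theorem idx {p : ℕ} [Fact p.Prime] (P : Sylow p G) :
    (normalizer ((P : Subgroup G) : Set G)).index = Nat.card (Sylow p G) :=
  P.card_eq_index_normalizer.symm

theorem burn [Fact (Nat.Prime 5)] (hn : Nat.card G = 150 ∨ Nat.card G = 300)
    (h6 : Nat.card (Sylow 5 G) = 6) (P : Sylow 5 G)
    (h : normalizer ((P : Subgroup G) : Set G) ≤ centralizer ((P : Subgroup G) : Set G)) :
    False := by
  haveI : Fact (Nat.Prime 3) := ⟨by norm_num⟩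
  have hc := MonoidHom.ker_transferSylow_isComplement' P h
  set K := (MonoidHom.transferSylow P h).ker with hK
  haveI : K.Normal := MonoidHom.normal_ker _
  have c25 : ∀ P' : Sylow 5 G, Nat.card (P' : Subgroup G) = 25 := fun P' => by
    rcases hn with e | e
    · exact card25 P' (m := 6) e (by norm_num)
    · exact card25 P' (m := 12) e (by norm_num)
  have hi : K.index = 25 := by rw [hc.symm.index_eq_card, c25]
  have hKc : Nat.card K = 6 ∨ Nat.card K = 12 := by
    have := K.card_mul_index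
    rw [hi] at this
    omega
  obtain ⟨R⟩ : Nonempty (Sylow 3 K) := inferInstance
  have hR : Nat.card (R : Subgroup K) = 3 := by
    rw [R.card_eq_multiplicity]
    rcases hKc with e | e <;> rw [e]
    · rw [show 6 = 3 * 2 by norm_num, Nat.factorization_mul (by norm_num) (by norm_num),
        Finsupp.add_apply, Nat.prime_three.factorization_self,
        Nat.factorization_eq_zero_of_not_dvd (by norm_num)]; norm_num
    · rw [show 12 = 3 * 4 by norm_num, Nat.factorization_mul (by norm_num) (by norm_num),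
        Finsupp.add_apply, Nat.prime_three.factorization_self,
        Nat.factorization_eq_zero_of_not_dvd (by norm_num)]; norm_num
  have hF := Sylow.normalizer_sup_eq_top R
  set R' := (R : Subgroup K).map K.subtype with hR'
  have hR3 : Nat.card R' = 3 := by rw [hR', card_map_of_injective K.subtype_injective, hR]
  set N := normalizer (R' : Set G) with hN
  have h25 : 25 ∣ Nat.card N := by
    have e := relIndex_sup_right N K
    rw [hF, relIndex_top_right, hi] at e
    rw [e]
    exact index_dvd_card _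
  obtain ⟨S, hS⟩ := Sylow.exists_subgroup_card_pow_prime 5 (G := N) (n := 2) h25
  have hS' : Nat.card (S.map N.subtype) = 5 ^ 2 := by
    rw [card_map_of_injective N.subtype_injective, hS]
  obtain ⟨T, hT⟩ := (IsPGroup.of_card hS').exists_le_sylow
  have hTe : S.map N.subtype = T := eq_of_le_of_card_ge hT (by rw [hS', c25]; norm_num)
  haveI : IsCyclic R' := isCyclic_of_prime_card hR3
  have hA : Nat.card (MulAut R') = 2 := by rw [IsCyclic.card_mulAut, hR3]; decide
  have hcen : ∀ y ∈ (T : Subgroup G), ∀ r ∈ R', r * y = y * r := by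
    intro y hy r hr
    rw [← hTe] at hy
    obtain ⟨s, hs, rfl⟩ := hy
    have h1 : s ^ 25 = 1 := by
      have := pow_card_eq_one' (G := S) (x := ⟨s, hs⟩)
      rw [hS] at this
      exact congrArg Subtype.val this
    have h2 : (R'.normalizerMonoidHom s) ^ 2 = 1 := by rw [← hA]; exact pow_card_eq_one'
    have h3 : (R'.normalizerMonoidHom s) ^ 25 = 1 := by rw [← map_pow, h1, map_one]
    have h4 : R'.normalizerMonoidHom s = 1 := by
      rw [show 25 = 2 * 12 + 1 by norm_num, pow_succ, pow_mul, h2, one_pow, one_mul] at h3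
      exact h3
    have h5 : s ∈ R'.normalizerMonoidHom.ker := h4
    rw [normalizerMonoidHom_ker] at h5
    exact mem_centralizer_iff.mp (mem_subgroupOf.mp h5) r hr
  have hle : R' ≤ normalizer ((T : Subgroup G) : Set G) := fun r hr =>
    centralizer_le_normalizer _ (mem_centralizer_iff.mpr fun y hy => (hcen y hy r hr).symm)
  have h7 := card_dvd_of_le hle
  have h8 := (normalizer ((T : Subgroup G) : Set G)).card_mul_index
  rw [idx, h6] at h8
  rw [hR3] at h7
  omega

theorem six [Fact (Nat.Prime 5)] (hn : Nat.card G = 3600) {P Q : Sylow 5 G} (h : P ≠ Q)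
    {H : Subgroup G} (hP : (P : Subgroup G) ≤ H) (hQ : (Q : Subgroup G) ≤ H)
    (hH : Nat.card H ≤ 360) :
    Nat.card (Sylow 5 H) = 6 ∧ (Nat.card H = 150 ∨ Nat.card H = 300) := by
  have h1 := one_lt_card_sylow_of_le h hP hQ
  have h2 := card_sylow_modEq_one 5 H
  have h3 := (P.subtype hP).card_dvd_index
  have h4 := ((P.subtype hP : Sylow 5 H) : Subgroup H).card_mul_index
  have h5 : Nat.card ((P.subtype hP : Sylow 5 H) : Subgroup H) = 25 := by
    rw [Sylow.coe_subtype, Nat.card_congr (subgroupOfEquivOfLe hP).toEquiv]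
    exact card25 P (m := 144) hn (by norm_num)
  have h6 := H.card_subgroup_dvd_card
  rw [h5] at h4
  rw [hn, ← h4] at h6
  rw [← h4] at hH ⊢
  generalize ((P.subtype hP : Sylow 5 H) : Subgroup H).index = m at *
  generalize Nat.card (Sylow 5 H) = s at *
  have hm : m ≤ 14 := by omega
  have hm0 : 0 < m := by
    rcases m with _ | m
    · simp at h6
    · omega
  have hs := Nat.le_of_dvd hm0 h3
  unfold Nat.ModEq at h2
  have : s = 6 ∨ s = 11 := by omega
  rcases this with rfl | rfl <;> interval_cases m <;> omega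

theorem ne3600 [IsSimpleGroup G] (hc : ¬ IsMulCommutative G) : Nat.card G ≠ 3600 := by
  intro hn
  haveI : Fact (Nat.Prime 5) := ⟨by norm_num⟩
  have c25 : ∀ P : Sylow 5 G, Nat.card (P : Subgroup G) = 25 := fun P =>
    card25 P (m := 144) hn (by norm_num)
  have cm : ∀ P : Sylow 5 G, ∀ a ∈ (P : Subgroup G), ∀ b ∈ (P : Subgroup G), a * b = b * a := by
    intro P a ha b hb
    have := IsPGroup.isMulCommutative_of_card_eq_prime_sq (p := 5) (G := (P : Subgroup G)) (c25 P)
    exact congrArg Subtype.val (this.is_comm.comm (⟨a, ha⟩ : (P : Subgroup G)) ⟨b, hb⟩)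
  have hs := card_sylow_mem hc (p := 5) (a := 2) (m := 144) (by norm_num) (by rw [hn]; norm_num)
  rw [hn, show sylc 3600 144 5 = [16, 36] by decide +kernel] at hs
  simp only [List.mem_cons, List.not_mem_nil, or_false] at hs
  obtain ⟨P⟩ : Nonempty (Sylow 5 G) := inferInstance
  obtain ⟨Q, hPQ, hD, hPM, hQM⟩ := exists_inter P (by rcases hs with e | e <;> rw [e] <;> norm_num)
  set D : Subgroup G := (P : Subgroup G) ⊓ Q with hDd
  have hD5 : Nat.card D = 5 := by
    have := c25 P
    change Nat.card (P : Subgroup G) = _ at hD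
    omega
  set M := normalizer (D : Set G) with hM
  have hMt : M ≠ ⊤ := normalizer_ne_top_of_isPGroup hc 5 D (P.isPGroup'.to_le inf_le_left)
    (fun e => by rw [e, card_bot] at hD5; omega)
  have hMi : 10 ≤ M.index := by
    have := two_mul_card_dvd_factorial_index hc M hMt
    rw [hn] at this
    by_contra hlt
    have h9 : M.index.factorial ∣ (9 : ℕ).factorial := Nat.factorial_dvd_factorial (by omega)
    have := this.trans h9
    revert this; decide
  have hMc : Nat.card M ≤ 360 := by
    have := M.card_mul_index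
    rw [hn] at this
    nlinarith
  set C := centralizer (D : Set G) with hC
  have hPC : (P : Subgroup G) ≤ C := fun a ha =>
    mem_centralizer_iff.mpr fun d hd => cm P d hd.1 a ha
  have hQC : (Q : Subgroup G) ≤ C := fun a ha =>
    mem_centralizer_iff.mpr fun d hd => cm Q d hd.2 a ha
  have hCM : C ≤ M := centralizer_le_normalizer _
  obtain ⟨c6, cc⟩ := six hn hPQ hPC hQC ((card_le_of_le hCM).trans hMc)
  obtain ⟨m6, mc⟩ := six hn hPQ hPM hQM hMc
  have hex : ∃ τ ∈ C, τ ∈ normalizer ((P : Subgroup G) : Set G) ∧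
      ∃ a ∈ (P : Subgroup G), a * τ ≠ τ * a := by
    by_contra hno
    push Not at hno
    refine burn cc c6 (P.subtype hPC) fun t ht => mem_centralizer_iff.mpr fun a ha => ?_
    rw [Sylow.coe_subtype, ← subgroupOf_normalizer_eq hPC] at ht
    exact Subtype.ext (hno t t.2 ht a ha)
  obtain ⟨τ, hτC, hτN, a, haP, hne⟩ := hex
  set N := normalizer ((P : Subgroup G) : Set G) with hN
  have hNc : Nat.card N = 225 ∨ Nat.card N = 100 := by
    have := N.card_mul_index
    rw [hN, idx, hn, ← hN] at this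
    rcases hs with e | e <;> rw [e] at this <;> omega
  -- `N / P` is commutative
  have hPN : (P : Subgroup G) ≤ N := le_normalizer
  have hcomm : ∀ n ∈ N, ∀ t ∈ N, (n * t)⁻¹ * (t * n) ∈ (P : Subgroup G) := by
    intro n hn' t ht
    haveI : ((P : Subgroup G).subgroupOf N).Normal := normal_in_normalizer
    have e1 := ((P : Subgroup G).subgroupOf N).card_mul_index
    rw [Nat.card_congr (subgroupOfEquivOfLe hPN).toEquiv, c25, index_eq_card] at e1
    have e2 : IsMulCommutative (N ⧸ (P : Subgroup G).subgroupOf N) := by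
      rcases hNc with e | e
      · haveI : Fact (Nat.Prime 3) := ⟨by norm_num⟩
        exact IsPGroup.isMulCommutative_of_card_eq_prime_sq (p := 3) (by omega)
      · exact IsPGroup.isMulCommutative_of_card_eq_prime_sq (p := 2) (by omega)
    have e3 := e2.is_comm.comm (((⟨n, hn'⟩ : N) : N ⧸ (P : Subgroup G).subgroupOf N))
      ((⟨t, ht⟩ : N) : N ⧸ (P : Subgroup G).subgroupOf N)
    rw [← QuotientGroup.mk_mul, ← QuotientGroup.mk_mul, QuotientGroup.eq] at e3
    exact e3
  -- `C_P(τ) = D`
  have hE : (P : Subgroup G) ⊓ centralizer ({τ} : Set G) = D := by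
    have l1 : D ≤ (P : Subgroup G) ⊓ centralizer ({τ} : Set G) := fun d hd =>
      ⟨hd.1, mem_centralizer_singleton_iff.mpr (mem_centralizer_iff.mp hτC d hd)⟩
    have l2 : (P : Subgroup G) ⊓ centralizer ({τ} : Set G) < P :=
      lt_of_le_of_ne inf_le_left fun e => hne (by
        rw [← e] at haP; exact mem_centralizer_singleton_iff.mp haP.2)
    have l3 := card_lt_of_lt l2
    have l4 := card_dvd_of_le l1
    have l5 := card_dvd_of_le l2.le
    rw [c25] at l3 l5
    rw [hD5] at l4
    refine (eq_of_le_of_card_ge l1 ?_).symm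
    rw [hD5]
    generalize Nat.card ((P : Subgroup G) ⊓ centralizer ({τ} : Set G) : Subgroup G) = k at *
    interval_cases k <;> omega
  have key : ∀ n ∈ N, ∀ d ∈ D, n * d * n⁻¹ ∈ D := by
    intro n hn' d hd
    rw [← hE]
    refine ⟨(mem_normalizer_iff.mp hn' d).mp hd.1, mem_centralizer_singleton_iff.mpr ?_⟩
    have e1 := cm P _ (hcomm n hn' τ hτN) d hd.1
    have e2 : d * τ = τ * d := mem_centralizer_iff.mp hτC d hd
    calc n * d * n⁻¹ * τ = n * (d * τ) * ((n * τ)⁻¹ * (τ * n)) * n⁻¹ := by group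
      _ = n * τ * (d * ((n * τ)⁻¹ * (τ * n))) * n⁻¹ := by rw [e2]; group
      _ = τ * (n * d * n⁻¹) := by rw [← e1]; group
  have hNM : N ≤ M := fun n hn' => mem_normalizer_iff.mpr fun d =>
    ⟨key n hn' d, fun h => by
      have := key n⁻¹ (N.inv_mem hn') _ h
      simpa [mul_assoc] using this⟩
  have e1 := (normalizer (((P.subtype hPM : Sylow 5 M) : Subgroup M) : Set M)).card_mul_index
  rw [idx, m6, Sylow.coe_subtype,
    ← subgroupOf_normalizer_eq hPM, Nat.card_congr (subgroupOfEquivOfLe hNM).toEquiv] at e1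
  omega

theorem e2 [IsSimpleGroup G] (hc : ¬ IsMulCommutative G) {p : ℕ} [Fact p.Prime]
    (h1 : p ∣ Nat.card G) (h2 : ¬ p ^ 2 ∣ Nat.card G) {s : ℕ} {a b : ℤ}
    (hl : d1list (Nat.card G) p = [(1, 2, s, [a]), (1, 2, s, [b])]) {J : G} (hJ : orderOf J = 2) :
    ∃ c : ℤ, (c = a ∨ c = b) ∧ ∃ k : ℕ, 0 < k ∧ 2 * k < c.natAbs ∧ 2 * k < (1 + c).natAbs ∧
      p * Nat.card (centralizer ({J} : Set G)) ^ 2 * (c.natAbs * (1 + c).natAbs) =
        Nat.card G * (4 * k) ^ 2 := by
  classical
  haveI := Fintype.ofFinite G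
  obtain ⟨x, K, h, B, L, h1, h2, h3⟩ := d1_mem (p := p) hc h1 h2
  rw [hl] at h1
  simp only [List.mem_cons, Prod.mk.injEq, List.not_mem_nil, or_false] at h1
  rcases h1 with ⟨hK, he, -, rfl⟩ | ⟨hK, he, -, rfl⟩
  · obtain ⟨k, _, h5, h6, h8, h9, rfl, h7, -⟩ := e2_data hc B hK he h3 hJ
    exact ⟨a, Or.inl rfl, k, h5, h6, h9, h7⟩
  · obtain ⟨k, _, h5, h6, h8, h9, rfl, h7, -⟩ := e2_data hc B hK he h3 hJ
    exact ⟨b, Or.inr rfl, k, h5, h6, h9, h7⟩

theorem ne2160 [IsSimpleGroup G] (hc : ¬ IsMulCommutative G) : Nat.card G ≠ 2160 := by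
  intro hn
  haveI : Fact (Nat.Prime 5) := ⟨by norm_num⟩
  obtain ⟨J, hJ, c, hc'⟩ := exists_central_invol (G := G) (a := 4) (by norm_num)
    (by rw [hn]; norm_num)
  obtain ⟨a, ha, k, h5, h6, h9, h7⟩ := e2 (p := 5) (s := 216) (a := -9) (b := -4) hc
    (by rw [hn]; norm_num) (by rw [hn]; norm_num) (by rw [hn]; decide +kernel) hJ
  rw [hn, hc'] at h7
  rcases ha with rfl | rfl <;>
  · norm_num at h6 h7 h9
    have : k ≤ 3 := by omega
    interval_cases k <;> rcases c with _ | _ | c <;> nlinarith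

theorem ne2400 [IsSimpleGroup G] (hc : ¬ IsMulCommutative G) : Nat.card G ≠ 2400 := by
  intro hn
  haveI : Fact (Nat.Prime 3) := ⟨by norm_num⟩
  obtain ⟨J, hJ, c, hc'⟩ := exists_central_invol (G := G) (a := 5) (by norm_num)
    (by rw [hn]; norm_num)
  obtain ⟨a, ha, k, h5, h6, h9, h7⟩ := e2 (p := 3) (s := 400) (a := -5) (b := 4) hc
    (by rw [hn]; norm_num) (by rw [hn]; norm_num) (by rw [hn]; decide +kernel) hJ
  rw [hn, hc'] at h7
  rcases ha with rfl | rfl <;>
  · norm_num at h6 h7 h9
    have : k ≤ 1 := by omega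
    interval_cases k <;> rcases c with _ | c <;> nlinarith

theorem ne3360 [IsSimpleGroup G] (hc : ¬ IsMulCommutative G) : Nat.card G ≠ 3360 := by
  classical
  intro hn
  haveI : Fact (Nat.Prime 5) := ⟨by norm_num⟩
  haveI : Fact (Nat.Prime 7) := ⟨by norm_num⟩
  haveI := Fintype.ofFinite G
  obtain ⟨x, K, h, B, L, h1, -⟩ := d1_mem (p := 7) hc (by rw [hn]; norm_num)
    (by rw [hn]; norm_num)
  rw [hn, show d1list 3360 7 = [(2, 2, 120, [15])] by decide +kernel] at h1
  simp only [List.mem_cons, Prod.mk.injEq, List.not_mem_nil, or_false] at h1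
  obtain ⟨J, hJ⟩ := exists_prime_orderOf_dvd_card' (G := K) 2 (by rw [h1.1])
  have hJ' : orderOf (J : G) = 2 := by rw [orderOf_coe, hJ]
  have hx : x ∈ centralizer ({(J : G)} : Set G) :=
    mem_centralizer_singleton_iff.mpr ((h.memK J).mp J.2).1
  obtain ⟨c, hc'⟩ : 7 ∣ Nat.card (centralizer ({(J : G)} : Set G)) := by
    rw [← h.ord]; exact orderOf_dvd_natCard _ hx
  obtain ⟨a, ha, k, h5, h6, h9, h7⟩ := e2 (p := 5) (s := 336) (a := 6) (b := -4) hc
    (by rw [hn]; norm_num) (by rw [hn]; norm_num) (by rw [hn]; decide +kernel) hJ'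
  rw [hn, hc'] at h7
  rcases ha with rfl | rfl <;>
  · norm_num at h6 h7 h9
    have : k ≤ 2 := by omega
    interval_cases k <;> rcases c with _ | _ | _ | _ | _ | c <;> nlinarith

theorem gw (h : GW.Conc G) : Nat.card G ≠ 1800 ∧ Nat.card G ≠ 2700 := by
  rcases GW_card h with ⟨q, -, -, -, h9⟩ | h9
  · by_cases hq : q < 19
    · interval_cases q <;> omega
    · have : 19 ^ 2 ≤ q ^ 2 := Nat.pow_le_pow_left (by omega) 2
      have : 19 * (19 ^ 2 - 1) ≤ q * (q ^ 2 - 1) := Nat.mul_le_mul (by omega) (by omega)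
      omega
  · omega

theorem card2 (P : Sylow 2 G) {a m : ℕ} (h : Nat.card G = 2 ^ a * m) (hm : ¬ 2 ∣ m) :
    Nat.card (P : Subgroup G) = 2 ^ a := by
  have hm0 : m ≠ 0 := by rintro rfl; simp at hm
  rw [P.card_eq_multiplicity, h, Nat.factorization_mul (by norm_num) hm0,
    Nat.prime_two.factorization_pow, Finsupp.add_apply, Finsupp.single_eq_same,
    Nat.factorization_eq_zero_of_not_dvd hm, add_zero]

end PO6

open PO6 in
theorem ords {G : Type*} [Group G] [Finite G] [IsSimpleGroup G] (hc : ¬ IsMulCommutative G)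
    (h : Nat.card G < 6000) :
    Nat.card G ∈ [60, 168, 360, 504, 660, 1092, 2448, 2520, 3420, 4080, 5616] := by
  simp only [List.mem_cons, List.not_mem_nil, or_false]
  by_cases h1 : Nat.card G ≤ 1092
  · have := S0496.result hc h1
    omega
  by_cases h2 : 3640 < Nat.card G
  · have := S0983.result hc h2 (by omega)
    omega
  have h3 : ∀ n ∈ List.range' 1093 2548, isPr n || test n ||
      [1800, 2160, 2400, 2448, 2520, 2700, 3360, 3420, 3600].contains n := by decide +kernel
  have h4 := h3 (Nat.card G) (List.mem_range'_1.mpr (by omega))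
  simp only [Bool.or_eq_true, List.contains_iff_mem, List.mem_cons, List.not_mem_nil,
    or_false] at h4
  rcases h4 with (e | e) | e
  · haveI := Fact.mk (prime_of_isPr e)
    haveI : IsCyclic G := isCyclic_of_prime_card (p := Nat.card G) rfl
    exact absurd ⟨⟨IsCyclic.commGroup.mul_comm⟩⟩ hc
  · exact absurd e (not_test hc)
  have h5 := ne2160 hc
  have h6 := ne2400 hc
  have h7 := ne3360 hc
  have h8 := ne3600 hc
  obtain ⟨P⟩ : Nonempty (Sylow 2 G) := inferInstance
  have h9 : Nat.card G ≠ 1800 := fun e => by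
    have hP : Nat.card (P : Subgroup G) = 8 := card2 P (a := 3) (m := 225) e (by norm_num)
    by_cases h : ∀ a ∈ (P : Subgroup G), a ^ 2 = 1
    · have := (seven_dvd_of_eight hc P hP h).trans (Subgroup.card_subgroup_dvd_card _)
      omega
    · exact (gw (conc_of_eight hc P hP (by simpa using h))).1 e
  have h10 : Nat.card G ≠ 2700 := fun e =>
    (gw (conc_of_card_four hc P (card2 P (a := 2) (m := 675) e (by norm_num)))).2 e
  omega

end Cfsg.Agent.DG6
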