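import Cfsg.Agent.H19.Sieve
import Cfsg.Agent.H19.BD5
import Cfsg.Agent.S0494
import Cfsg.Agent.S0495
import Cfsg.Agent.S0497
import Cfsg.Agent.S1011
import Cfsg.Agent.S0498
import Cfsg.Agent.S1020
import Cfsg.Agent.S1021
import Cfsg.Agent.S0981
import Cfsg.Agent.S0984
import Cfsg.Agent.S0252
import Cfsg.Agent.S0254
import Cfsg.Agent.S4774
import Cfsg.Agent.S4812

/-! Degree primes and uniqueness for the simple groups of order less than 6000. -/

set_option autoImplicit false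

namespace Cfsg.Agent.DG6

open Cfsg Subgroup Cfsg.Agent.H4 Cfsg.Agent.H5 Cfsg.Agent.H6 Cfsg.Agent.H19
open scoped MatrixGroups

variable {G : Type*} [Group G] [Finite G]

open Classical in
theorem R.d1 [IsSimpleGroup G] (hc : ¬ IsMulCommutative G) {p n : ℕ} [hp : Fact p.Prime]
    (hn : Nat.card G = n) (hd : p ∣ n) (h2 : ¬ p ^ 2 ∣ n) (Q : List ℕ)
    (hall : ∀ t ∈ d1list n p, t.1 = 1 ∧
      1 + (t.2.2.2.map (· ^ 2)).sum + ((p - 1) / t.2.1 : ℕ) * (1 + t.2.2.2.sum) ^ 2 < (n : ℤ) ∧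
      ∀ q ∈ Q, ∃ a ∈ t.2.2.2, (q : ℤ) ∣ a) :
    p ∈ degreePrimes G ∧ ∀ q ∈ Q, q.Prime → q ∈ degreePrimes G := by
  subst hn
  haveI := Fintype.ofFinite G
  obtain ⟨x, K, h, B, L, h1, h5, h4⟩ := d1_mem hc hd h2
  obtain ⟨a1, a2, a3⟩ := hall _ h1
  dsimp only at a1 a2 a3
  obtain rfl := eq_bot_of_card_eq _ a1
  refine ⟨?_, fun q hq hq' => ?_⟩
  · by_contra hn
    haveI := Fintype.ofFinite ((ZMod p)ˣ ⧸ EE h.ord)
    have hd : Disjoint B.X (Finset.univ.image B.μ) := Finset.disjoint_right.mpr fun _ e => by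
      obtain ⟨q, -, rfl⟩ := Finset.mem_image.mp e; exact B.notX q
    have hu : B.X ∪ Finset.univ.image B.μ = Finset.univ := Finset.eq_univ_of_forall fun χ => by
      by_contra e
      rw [Finset.mem_union, not_or] at e
      exact hn ⟨hp.out, _, ⟨χ, rfl⟩, _, (B.fd_other e.1 fun q e' =>
        e.2 (Finset.mem_image.mpr ⟨q, Finset.mem_univ _, e'⟩)).symm⟩
    have h7 := H8.sum_charDegree_sq (G := G)
    rw [← hu, Finset.sum_union hd, Finset.sum_image fun _ _ _ _ e => B.inj e,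
      ← Finset.add_sum_erase _ _ B.one_mem, charDegree_irrOne] at h7
    simp only [B.deg_μ, Finset.sum_const, Finset.card_univ, smul_eq_mul, one_pow,
      ← Nat.card_eq_fintype_card] at h7
    have h6 : (L.map (· ^ 2)).sum =
        ∑ χ ∈ B.X.erase (irrOne G), (charDegree (χ : G → ℂ) : ℤ) ^ 2 := by
      rw [← Multiset.sum_coe, ← Multiset.map_coe, h4, Multiset.map_map]
      refine Finset.sum_congr rfl fun χ hχ => ?_
      rcases B.ha χ (Finset.mem_of_mem_erase hχ) with e | e <;> simp [e]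
    have ht : (p - 1) / eN h.ord = tN h.ord := by
      rw [← eN_mul h.ord, Nat.mul_div_cancel_left _ (eN_pos h.ord)]
    rw [h6, ht, ← h5, ← h7, show (B.ε * B.z) ^ 2 = (B.z : ℤ) ^ 2 by
      rcases B.hε with e | e <;> simp [e]] at a2
    push_cast at a2
    exact lt_irrefl _ a2
  · obtain ⟨a, ha, hqa⟩ := a3 q hq
    have : a ∈ (L : Multiset ℤ) := ha
    rw [h4] at this
    obtain ⟨χ, b1, rfl⟩ := Multiset.mem_map.mp this
    refine ⟨hq', _, ⟨χ, rfl⟩, ?_⟩
    rcases B.ha χ (Finset.mem_of_mem_erase b1) with e | e <;> rw [e] at hqa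
    · rw [one_mul] at hqa; exact_mod_cast hqa
    · rw [neg_one_mul, dvd_neg] at hqa; exact_mod_cast hqa

theorem R.field (p k q : ℕ) [Fact p.Prime] (hk : k ≠ 0) (hq : p ^ k = q) :
    ∃ (F : Type) (_ : Field F) (_ : Fintype F) (_ : CharP F p), Fintype.card F = q := by
  haveI := Fintype.ofFinite (GaloisField p k)
  exact ⟨GaloisField p k, inferInstance, inferInstance, inferInstance, by
    rw [← Nat.card_eq_fintype_card, GaloisField.card p k hk, hq]⟩

theorem R.psl {F : Type*} [Field F] [Fintype F] [IsSimpleGroup G] {q : ℕ} (hF : Fintype.card F = q)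
    (h : (q, Nat.card G) ∈ [(4, 60), (7, 168), (9, 360), (8, 504), (11, 660), (13, 1092),
      (17, 2448), (19, 3420), (16, 4080)]) : Nonempty (G ≃* PSL(2, F)) := by
  simp only [List.mem_cons, Prod.mk.injEq, List.not_mem_nil, or_false] at h
  rcases h with ⟨rfl, h⟩ | ⟨rfl, h⟩ | ⟨rfl, h⟩ | ⟨rfl, h⟩ | ⟨rfl, h⟩ | ⟨rfl, h⟩ | ⟨rfl, h⟩ | ⟨rfl, h⟩ |
    ⟨rfl, h⟩
  · exact ⟨(S0494.result h).some.trans (S0252.result hF).some.symm⟩
  · exact S0495.result h hF
  · exact ⟨(S0497.result h).some.trans (S0254.result hF).some.symm⟩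
  · exact S1011.result h hF
  · exact S0498.result 11 (Or.inl rfl) (by rw [h]; norm_num) hF
  · exact S0498.result 13 (Or.inr rfl) (by rw [h]; norm_num) hF
  · exact S1020.result h hF
  · exact S1021.result h hF
  · exact S0981.result h hF

theorem R.ev [IsSimpleGroup G] (k q : ℕ) (hk : k ≠ 0) (hq : 2 ^ k = q) (h4 : 4 ≤ q)
    (h : (q, Nat.card G) ∈ [(4, 60), (7, 168), (9, 360), (8, 504), (11, 660), (13, 1092),
      (17, 2448), (19, 3420), (16, 4080)]) :
    degreePrimes G = {r : ℕ | r.Prime ∧ r ∣ q * (q ^ 2 - 1)} ∧ ∀ r s : ℕ, (degreeGraph G).Adj r s ↔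
      (r ≠ s ∧ r.Prime ∧ s.Prime ∧ ((r ∣ q + 1 ∧ s ∣ q + 1) ∨ (r ∣ q - 1 ∧ s ∣ q - 1))) := by
  haveI : Fact (Nat.Prime 2) := ⟨Nat.prime_two⟩
  obtain ⟨F, _, _, _, hF⟩ := R.field 2 k q hk hq
  exact S4812.result F q hF h4 (Or.inl (R.psl hF h))

theorem R.od [IsSimpleGroup G] (p k q : ℕ) (hp : p.Prime) (hp2 : p ≠ 2) (hk : k ≠ 0)
    (hq : p ^ k = q) (h5 : 5 < q)
    (h : (q, Nat.card G) ∈ [(4, 60), (7, 168), (9, 360), (8, 504), (11, 660), (13, 1092),
      (17, 2448), (19, 3420), (16, 4080)]) :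
    degreePrimes G = {r : ℕ | r.Prime ∧ r ∣ q * (q ^ 2 - 1)} ∧ ∀ r s : ℕ, (degreeGraph G).Adj r s ↔
      (r ≠ s ∧ r.Prime ∧ s.Prime ∧ r ∣ q ^ 2 - 1 ∧ s ∣ q ^ 2 - 1 ∧
        (r = 2 ∨ s = 2 ∨ (r ∣ q + 1 ∧ s ∣ q + 1) ∨ (r ∣ q - 1 ∧ s ∣ q - 1))) := by
  haveI : Fact p.Prime := ⟨hp⟩
  obtain ⟨F, _, _, _, hF⟩ := R.field p k q hk hq
  exact S4774.result F p hp2 q hF h5 (Or.inl (R.psl hF h))

theorem R.pr {n : ℕ} {q : ℕ} (hq : q.Prime) (L : List ℕ) (hL : ∀ r ∈ L, r.Prime) (k : ℕ)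
    (hn : n ∣ L.prod ^ k) (h : q ∣ n) : q ∈ L := by
  obtain ⟨r, h1, h2⟩ := (Prime.dvd_prod_iff hq.prime).1 (hq.dvd_of_dvd_pow (h.trans hn))
  rwa [(Nat.prime_dvd_prime_iff_eq hq (hL r h1)).1 h2]

theorem rho [IsSimpleGroup G] (hc : ¬ IsMulCommutative G)
    (hL : Nat.card G ∈ [60, 168, 360, 504, 660, 1092, 2448, 2520, 3420, 4080, 5616]) :
    (∀ q, q.Prime → q ∣ Nat.card G → q ∈ degreePrimes G) ∧
      (Nat.card G = 360 → (degreeGraph G).Adj 2 5 ∧ ¬ (degreeGraph G).Adj 2 3) ∧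
      (Nat.card G = 504 → ¬ (degreeGraph G).Adj 2 3) := by
  have ev : ∀ k q : ℕ, k ≠ 0 → 2 ^ k = q → 4 ≤ q → ∀ n, Nat.card G = n →
      (q, n) ∈ [(4, 60), (7, 168), (9, 360), (8, 504), (11, 660), (13, 1092),
        (17, 2448), (19, 3420), (16, 4080)] → n ∣ q * (q ^ 2 - 1) →
      ∀ r, r.Prime → r ∣ Nat.card G → r ∈ degreePrimes G := fun k q hk hq h4 n hn h hd r hr h' => by
    rw [(R.ev k q hk hq h4 (hn ▸ h)).1]; exact ⟨hr, (hn ▸ h').trans hd⟩
  have od : ∀ p k q : ℕ, p.Prime → p ≠ 2 → k ≠ 0 → p ^ k = q → 5 < q → ∀ n, Nat.card G = n →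
      (q, n) ∈ [(4, 60), (7, 168), (9, 360), (8, 504), (11, 660), (13, 1092),
        (17, 2448), (19, 3420), (16, 4080)] → n ∣ q * (q ^ 2 - 1) →
      ∀ r, r.Prime → r ∣ Nat.card G → r ∈ degreePrimes G :=
    fun p k q hp hp2 hk hq h4 n hn h hd r hr h' => by
      rw [(R.od p k q hp hp2 hk hq h4 (hn ▸ h)).1]; exact ⟨hr, (hn ▸ h').trans hd⟩
  refine ⟨?_, fun h => ?_, fun h => ?_⟩
  · simp only [List.mem_cons, List.not_mem_nil, or_false] at hL
    rcases hL with h | h | h | h | h | h | h | h | h | h | h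
    · exact ev 2 4 (by norm_num) rfl (by norm_num) _ h (by simp) (by norm_num)
    · exact od 7 1 7 (by norm_num) (by norm_num) (by norm_num) rfl (by norm_num) _ h (by simp)
        (by norm_num)
    · exact od 3 2 9 (by norm_num) (by norm_num) (by norm_num) rfl (by norm_num) _ h (by simp)
        (by norm_num)
    · exact ev 3 8 (by norm_num) rfl (by norm_num) _ h (by simp) (by norm_num)
    · exact od 11 1 11 (by norm_num) (by norm_num) (by norm_num) rfl (by norm_num) _ h (by simp)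
        (by norm_num)
    · exact od 13 1 13 (by norm_num) (by norm_num) (by norm_num) rfl (by norm_num) _ h (by simp)
        (by norm_num)
    · exact od 17 1 17 (by norm_num) (by norm_num) (by norm_num) rfl (by norm_num) _ h (by simp)
        (by norm_num)
    · haveI : Fact (Nat.Prime 5) := ⟨by norm_num⟩
      obtain ⟨a, b⟩ := R.d1 hc (p := 5) h (by norm_num) (by norm_num) [2, 3, 7] (by decide +kernel)
      intro r hr hd
      have := R.pr hr [2, 3, 5, 7] (by simp; norm_num) 3 (n := 2520) (by norm_num) (h ▸ hd)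
      simp only [List.mem_cons, List.not_mem_nil, or_false] at this
      rcases this with rfl | rfl | rfl | rfl
      exacts [b _ (by simp) hr, b _ (by simp) hr, a, b _ (by simp) hr]
    · exact od 19 1 19 (by norm_num) (by norm_num) (by norm_num) rfl (by norm_num) _ h (by simp)
        (by norm_num)
    · exact ev 4 16 (by norm_num) rfl (by norm_num) _ h (by simp) (by norm_num)
    · haveI : Fact (Nat.Prime 13) := ⟨by norm_num⟩
      obtain ⟨a, b⟩ := R.d1 hc (p := 13) h (by norm_num) (by norm_num) [2, 3] (by decide +kernel)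
      intro r hr hd
      have := R.pr hr [2, 3, 13] (by simp; norm_num) 4 (n := 5616) (by norm_num) (h ▸ hd)
      simp only [List.mem_cons, List.not_mem_nil, or_false] at this
      rcases this with rfl | rfl | rfl
      exacts [b _ (by simp) hr, b _ (by simp) hr, a]
  · have := (R.od (G := G) 3 2 9 (by norm_num) (by norm_num) (by norm_num) rfl (by norm_num)
      (by simp [h])).2
    rw [this, this]; norm_num
  · rw [(R.ev (G := G) 3 8 (by norm_num) rfl (by norm_num) (by simp [h])).2]; norm_num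

theorem uniq {H : Type*} [Group H] [Finite H] [IsSimpleGroup G] [IsSimpleGroup H]
    (hL : Nat.card G ∈ [60, 168, 360, 504, 660, 1092, 2448, 2520, 3420, 4080, 5616])
    (h5 : Nat.card G ≠ 5616) (e : Nat.card H = Nat.card G) : Nonempty (H ≃* G) := by
  have key : ∀ p k q : ℕ, p.Prime → k ≠ 0 → p ^ k = q →
      (q, Nat.card G) ∈ [(4, 60), (7, 168), (9, 360), (8, 504), (11, 660), (13, 1092),
        (17, 2448), (19, 3420), (16, 4080)] → Nonempty (H ≃* G) := fun p k q hp hk hq h => by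
    haveI : Fact p.Prime := ⟨hp⟩
    obtain ⟨F, _, _, _, hF⟩ := R.field p k q hk hq
    exact ⟨(R.psl hF (e ▸ h)).some.trans (R.psl hF h).some.symm⟩
  simp only [List.mem_cons, List.not_mem_nil, or_false] at hL
  rcases hL with h | h | h | h | h | h | h | h | h | h | h
  · exact key 2 2 4 (by norm_num) (by norm_num) rfl (by simp [h])
  · exact key 7 1 7 (by norm_num) (by norm_num) rfl (by simp [h])
  · exact key 3 2 9 (by norm_num) (by norm_num) rfl (by simp [h])
  · exact key 2 3 8 (by norm_num) (by norm_num) rfl (by simp [h])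
  · exact key 11 1 11 (by norm_num) (by norm_num) rfl (by simp [h])
  · exact key 13 1 13 (by norm_num) (by norm_num) rfl (by simp [h])
  · exact key 17 1 17 (by norm_num) (by norm_num) rfl (by simp [h])
  · exact ⟨(S0984.result (e.trans h)).some.trans (S0984.result h).some.symm⟩
  · exact key 19 1 19 (by norm_num) (by norm_num) rfl (by simp [h])
  · exact key 2 4 16 (by norm_num) (by norm_num) rfl (by simp [h])
  · exact absurd h h5

end Cfsg.Agent.DG6
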