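import Cfsg.Agent.H19.M11e
import Cfsg.Agent.H19.E3
import Cfsg.Agent.H19.Two

/-! Simple groups of order 5616: character data -/

set_option autoImplicit false

namespace Cfsg.Agent.DG6

open Cfsg Cfsg.Agent.H4 Cfsg.Agent.H5 Cfsg.Agent.H6 Cfsg.Agent.H19 Subgroup Finset

open Classical in
/-- character data of a simple group of order 5616 -/
structure LD (G : Type*) [Group G] [Fintype G] where
  χ : IrrCharacter G
  φ : IrrCharacter G
  X : G → ℤ
  Y : G → ℤ
  dχ : charDegree (χ : G → ℂ) = 12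
  dφ : charDegree (φ : G → ℂ) = 27
  hX : ∀ g, (χ : G → ℂ) g = X g
  hY : ∀ g, (φ : G → ℂ) g = Y g
  rel : ∀ g, 2 ∣ orderOf g → X g = 1 + Y g
  v13 : ∀ g, 13 ∣ orderOf g → X g = -1 ∧ Y g = 1 ∧ orderOf g = 13 ∧ cc g = 13
  n13 : (univ.filter fun g : G => 13 ∣ orderOf g).card = 1728
  inv : ∀ t, orderOf t = 2 → Y t = 3

variable {G : Type*} [Group G] [Fintype G]

theorem nonempty_LD [IsSimpleGroup G] (hG : Nat.card G = 5616) : Nonempty (LD G) := by
  classical
  have hc : ¬ IsMulCommutative G := not_comm_of_card_not_prime (by rw [hG]; norm_num)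
  haveI : Fact (Nat.Prime 13) := ⟨by norm_num⟩
  obtain ⟨x, K, h, B, L, h1, h2, h3⟩ := d1_mem (p := 13) hc (by rw [hG]; norm_num)
    (by rw [hG]; norm_num)
  rw [hG, show d1list 5616 13 = [(1, 3, 144, [-12, 27])] by decide +kernel] at h1
  simp only [List.mem_cons, Prod.mk.injEq, List.not_mem_nil, or_false] at h1
  obtain ⟨hK, he, hs, rfl⟩ := h1
  obtain rfl := eq_bot_of_card_eq _ hK
  have hz : B.ε = 1 ∧ B.z = 16 := by
    rcases B.hε with f | f <;> rw [f] at h2 <;> simp at h2 <;> omega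
  obtain ⟨l, h4, h5⟩ := exists_list_of_map_eq _ _ _ h3
  obtain ⟨χ, φ, rfl⟩ := List.length_eq_two.1 (by simpa using congrArg List.length h5 : l.length = 2)
  simp only [List.map_cons, List.map_nil, List.cons.injEq, and_true] at h5
  have mem : ∀ ψ, ψ ∈ B.X.erase (irrOne G) ↔ ψ = χ ∨ ψ = φ := fun ψ => by
    rw [← Finset.mem_val, ← h4]; simp
  have mχ := Finset.mem_of_mem_erase ((mem χ).2 (.inl rfl))
  have mφ := Finset.mem_of_mem_erase ((mem φ).2 (.inr rfl))
  have aχ : B.a χ = -1 ∧ charDegree (χ : G → ℂ) = 12 := by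
    rcases B.ha χ mχ with f | f <;> rw [f] at h5 <;> omega
  have aφ : B.a φ = 1 ∧ charDegree (φ : G → ℂ) = 27 := by
    rcases B.ha φ mφ with f | f <;> rw [f] at h5 <;> omega
  have sm : ∀ F : IrrCharacter G → ℂ, ∑ ψ ∈ B.X, B.a ψ * F ψ = F (irrOne G) - F χ + F φ := fun F => by
    rw [← Finset.add_sum_erase _ _ B.one_mem, Finset.sum_eq_multiset_sum, ← h4, B.a_one]
    simp [aχ.1, aφ.1]; ring
  have uq : ∀ ψ : IrrCharacter G, charDegree (ψ : G → ℂ) = 12 ∨ charDegree (ψ : G → ℂ) = 27 →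
      ψ = χ ∨ ψ = φ := fun ψ e => by
    rw [← mem, Finset.mem_erase]
    refine ⟨fun f => by rw [f, charDegree_irrOne] at e; omega, ?_⟩
    by_contra h6
    have := B.fd_other h6 fun q f => by rw [← f, B.deg_μ, hz.2] at e; omega
    omega
  have it : ∀ ψ : IrrCharacter G, (∀ θ : IrrCharacter G, charDegree (θ : G → ℂ) = charDegree (ψ : G → ℂ) →
      θ = ψ) → ∃ X : G → ℤ, ∀ g, (ψ : G → ℂ) g = X g := fun ψ e => by
    have : ∀ g, ∃ n : ℤ, (ψ : G → ℂ) g = n := fun g => int_of_gal ψ.2.isCharacter fun σ => by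
      obtain ⟨θ, h6, h7⟩ := exists_gal ψ σ
      rw [← h7, e θ h6]
    exact ⟨fun g => (this g).choose, fun g => (this g).choose_spec⟩
  obtain ⟨X, hX⟩ := it χ fun θ e => (uq θ (.inl (e.trans aχ.2))).resolve_right fun f => by
    rw [f, aφ.2, aχ.2] at e; omega
  obtain ⟨Y, hY⟩ := it φ fun θ e => (uq θ (.inr (e.trans aφ.2))).resolve_left fun f => by
    rw [f, aφ.2, aχ.2] at e; omega
  have n13 : ∀ g : G, 2 ∣ orderOf g → ¬ 13 ∣ orderOf g := fun g h6 h7 => by
    have := (h.cc_eq h7).1; omega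
  have μ0 : ∀ g : G, 2 ∣ orderOf g → (B.μ 1 : G → ℂ) g = 0 := fun g hg =>
    apply_eq_zero_of_defect_zero Nat.prime_two (B.μ 1).2
      (fact_le (k := 4) Nat.prime_two (by rw [hG]; norm_num) (by rw [B.deg_μ, hz.2]; norm_num)
        (by rw [B.deg_μ, hz.2]; norm_num)) hg
  have rel : ∀ g, 2 ∣ orderOf g → X g = 1 + Y g := fun g hg => by
    have := B.rel 1 g (n13 g hg)
    rw [μ0 g hg, sm fun ψ => (ψ : G → ℂ) g, hX, hY, irrOne_apply, mul_zero] at this
    have : (X g : ℂ) = 1 + Y g := by linear_combination this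
    exact_mod_cast this
  refine ⟨⟨χ, φ, X, Y, aχ.2, aφ.2, hX, hY, rel, fun g hg => ?_, by rw [h.card_sing, hs], fun t ht => ?_⟩⟩
  · obtain ⟨i, hi, e⟩ := h.exists_conj hg
    have e1 := B.valX' mχ hi
    have e2 := B.valX' mφ hi
    rw [hX, aχ.1, ← int_conj hX e] at e1
    rw [hY, aφ.1, ← int_conj hY e] at e2
    exact ⟨by exact_mod_cast e1, by exact_mod_cast e2, h.cc_eq hg⟩
  · have t2 : t * t = 1 := by rw [← sq, ← ht, pow_orderOf_eq_one]
    have e := B.card_pairs_eq (u := t) (v := t) (by omega) (by omega)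
    have z0 : Nat.card {q : G × G // IsConj t q.1 ∧ IsConj t q.2 ∧ q.1 * q.2 = x} = 0 := by
      by_contra hne
      obtain ⟨-, a, ha, -, hi⟩ := h.card_pairs (by norm_num) t2 t2 hne
      have := (normalizer (zpowers x : Set G)).orderOf_dvd_natCard (x := a) (mem_normalizer_fintype (by
        rintro _ ⟨k, rfl⟩
        simp only [SetLike.mem_coe]
        rw [← conj_zpow, hi]; exact zpow_mem (inv_mem (mem_zpowers x)) k))
      rw [← orderOf_isConj ha, ht, h.card_N, card_bot, show Nat.card (EE h.ord) = 3 from he] at this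
      omega
    rw [z0, μ0 t (by omega), sm fun ψ => (ψ : G → ℂ) t * (ψ : G → ℂ) t / (ψ : G → ℂ) 1,
      ← χ.2.isCharacter.charDegree_cast, ← φ.2.isCharacter.charDegree_cast, aχ.2, aφ.2, hX, hY,
      rel t (by omega), hG] at e
    simp only [irrOne_apply] at e
    have e2 : ((Y t - 3) * (5 * Y t + 33) : ℂ) = 0 := by
      push_cast at e
      linear_combination (108 / 5616 : ℂ) * e
    have e3 : (Y t - 3) * (5 * Y t + 33) = 0 := by exact_mod_cast e2
    rcases mul_eq_zero.1 e3 with f | f <;> omega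

/-- the type of an element order -/
def ty (n : ℕ) : Fin 5 := if n = 1 then 0 else if 13 ∣ n then 1 else if 3 ∣ n then 2 else if n = 2 then 3 else 4

/-- elements of a given type -/
noncomputable def T (G : Type*) [Group G] [Fintype G] (i : Fin 5) : Finset G :=
  univ.filter fun g => ty (orderOf g) = i

theorem mem_T {i : Fin 5} {g : G} : g ∈ T G i ↔ ty (orderOf g) = i := by simp [T]

theorem mem3 {g : G} : g ∈ T G 3 ↔ orderOf g = 2 := by
  rw [mem_T, ty]; split_ifs <;> simp [*] <;> omega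

namespace LD
variable (D : LD G) (hG : Nat.card G = 5616)
include D

theorem mem2 {g : G} : g ∈ T G 2 ↔ 3 ∣ orderOf g := by
  have := D.v13 g
  rw [mem_T, ty]; split_ifs <;> simp [*] <;> omega

theorem split (F : G → ℤ) {a b : ℤ} (h1 : ∀ g, 13 ∣ orderOf g → F g = a)
    (h2 : ∀ g, orderOf g = 2 → F g = b) : ∑ g, F g = F 1 + 1728 * a + ∑ g ∈ T G 2, F g +
      (T G 3).card * b + ∑ g ∈ T G 4, F g := by
  classical
  have e0 : T G 0 = {1} := by
    ext g; rw [mem_T, mem_singleton, ← orderOf_eq_one_iff, ty]; split_ifs <;> simp [*]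
  have e1 : T G 1 = univ.filter fun g : G => 13 ∣ orderOf g := by
    ext g; rw [mem_T, mem_filter, ty]; split_ifs <;> simp [*]
  rw [← sum_fiberwise univ fun g => ty (orderOf g), Fin.sum_univ_five]
  change ∑ g ∈ T G 0, F g + ∑ g ∈ T G 1, F g + _ + ∑ g ∈ T G 3, F g + _ = _
  rw [e0, e1, sum_singleton, sum_congr rfl fun g hg => h1 g (mem_filter.mp hg).2,
    sum_congr rfl fun g (hg : g ∈ T G 3) => h2 g (mem3.mp hg), sum_const, sum_const, D.n13]
  simp only [nsmul_eq_mul, T]
  rfl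

theorem one_vals : D.X 1 = 12 ∧ D.Y 1 = 27 := by
  have h1 := (D.hX 1).symm.trans D.χ.2.isCharacter.charDegree_cast.symm
  have h2 := (D.hY 1).symm.trans D.φ.2.isCharacter.charDegree_cast.symm
  rw [D.dχ] at h1; rw [D.dφ] at h2
  exact ⟨by exact_mod_cast h1, by exact_mod_cast h2⟩

theorem no13 {g : G} (h : ¬ 13 ∣ orderOf g) (h1 : g ≠ 1) : ¬ 13 ∣ cc g := fun h4 => by
  obtain ⟨u, hu, h5⟩ := exists_of_dvd_cc (by norm_num) h4
  have := orderOf_dvd_cc h5.symm
  rw [(D.v13 u (hu ▸ dvd_rfl)).2.2.2, Nat.dvd_prime (by norm_num)] at this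
  rcases this with e | e
  · exact h1 (orderOf_eq_one_iff.1 e)
  · exact h (e ▸ dvd_rfl)

include hG

theorem φ3 {g : G} (h : 3 ∣ orderOf g) : (D.φ : G → ℂ) g = 0 :=
  apply_eq_zero_of_defect_zero Nat.prime_three D.φ.2
    (fact_le (k := 3) Nat.prime_three (by rw [hG]; norm_num) (by rw [D.dφ]; norm_num)
      (by rw [D.dφ]; norm_num)) h

theorem Y3 {g : G} (h : 3 ∣ orderOf g) : D.Y g = 0 := by
  have := D.φ3 hG h
  rw [D.hY] at this; exact_mod_cast this

omit D in
theorem ty4 {g : G} (h : g ∈ T G 4) : orderOf g = 4 ∨ orderOf g = 8 ∨ orderOf g = 16 :=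
  (by decide +kernel : ∀ d ∈ Nat.divisors 5616, ty d = 4 → d = 4 ∨ d = 8 ∨ d = 16) _
    (Nat.mem_divisors.mpr ⟨hG ▸ orderOf_dvd_natCard g, by norm_num⟩) (mem_T.mp h)

theorem cc_dvd48 {t : G} (ht : orderOf t = 2) : cc t ∣ 48 := by
  classical
  have h9 : ¬ 9 ∣ cc t := fun h9 => by
    haveI := Fact.mk Nat.prime_three
    obtain ⟨P, hP⟩ := Sylow.exists_subgroup_card_pow_prime (G := centralizer ({t} : Set G)) 3 (n := 2) h9
    have cP : Nat.card (P.map (Subgroup.subtype _)) = 9 := by rw [card_map_of_injective (subtype_injective _), hP]; rfl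
    have cm : ∀ a ∈ P.map (Subgroup.subtype _), Commute a t := by
      rintro _ ⟨a, -, rfl⟩; exact mem_centralizer_singleton_iff.1 a.2
    have := card_dvd_sum D.φ.2.isCharacter (P.map (Subgroup.subtype _))
      (centralizer_le_normalizer _ fun a ha => cm a ha) (n := D.Y t) (by
        rw [Fintype.sum_eq_single 1 fun a ha => ?_, OneMemClass.coe_one, one_mul, D.hY]
        have h7 : orderOf (a : G) ≠ 1 := fun e => ha (Subtype.ext (orderOf_eq_one_iff.1 e))
        have h8 := (P.map (Subgroup.subtype _)).orderOf_dvd_natCard a.2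
        rw [cP] at h8
        have h10 := Nat.le_of_dvd (by norm_num) h8
        refine D.φ3 hG ?_
        rw [(cm a a.2).orderOf_mul_eq_mul_orderOf_of_coprime (by
          rw [ht]; exact Nat.Coprime.coprime_dvd_left h8 (by norm_num))]
        refine Dvd.dvd.mul_right ?_ _
        interval_cases orderOf (a : G) <;> omega)
    rw [cP, D.inv t ht] at this
    omega
  exact (by decide +kernel : ∀ d ∈ Nat.divisors 5616, ¬ 13 ∣ d → ¬ 9 ∣ d → d ∣ 48) _
    (Nat.mem_divisors.mpr ⟨hG ▸ cc_dvd t, by norm_num⟩)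
    (D.no13 (by omega) (by rintro rfl; simp at ht)) h9

theorem main {t : G} (ht : orderOf t = 2) : cc t = 48 ∧ cl t = T G 3 ∧ (T G 3).card = 117 ∧
    (T G 4).card = 2106 ∧ (∀ r ∈ T G 4, D.X r = 0) ∧ ∑ g ∈ T G 2, D.X g * D.X g = 1872 := by
  classical
  have h1 := D.split D.Y (fun g h => (D.v13 g h).2.1) D.inv
  have h2 := D.split (fun g => D.Y g * D.Y g) (a := 1) (b := 9) (fun g h => by simp [(D.v13 g h).2.1])
    fun g h => by simp [D.inv g h]
  have h3 : ∀ g ∈ T G 2, D.Y g = 0 := fun g hg => D.Y3 hG (D.mem2.1 hg)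
  have h6 := sum_int_inner D.hY D.hY (n := 1) (by simp [D.φ.2.classInner_self])
  have h7 := sum_int_inner D.hY (B := fun _ => 1) (β := irrOne G) (fun _ => by simp) (n := 0) (by
    rw [irr_classInner, if_neg (MDat.ne_one_of_deg (by rw [D.dφ]; omega)), Int.cast_zero])
  simp only [mul_one, mul_zero] at h7
  rw [h7, sum_eq_zero h3, D.one_vals.2] at h1
  rw [h6, sum_eq_zero fun g hg => by rw [h3 g hg, mul_zero], D.one_vals.2, hG] at h2
  have nn : ∀ r ∈ T G 4, 0 ≤ D.Y r * D.Y r + D.Y r := fun r _ => by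
    rcases le_or_gt 0 (D.Y r) with e | e <;> nlinarith
  have h4 := sum_nonneg nn
  have h5 : (cl t).card ≤ (T G 3).card :=
    card_le_card fun g hg => mem3.2 (orderOf_isConj (mem_cl.1 hg) ▸ ht)
  have h8 := cc_mul_cl t
  have h9 := Nat.le_of_dvd (by norm_num) (D.cc_dvd48 hG ht)
  rw [sum_add_distrib] at h4
  rw [hG] at h8
  have h10 : 117 ≤ (cl t).card := by nlinarith
  have h11 : (T G 3).card = 117 := by omega
  have h12 : (cl t).card = 117 := by omega
  have h13 : ∀ r ∈ T G 4, D.Y r = -1 := fun r hr => by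
    have e := (sum_eq_zero_iff_of_nonneg nn).1 (by rw [sum_add_distrib]; omega) r hr
    have := int_congr D.φ.2.isCharacter Nat.prime_two (k := 4) (v := r) (by
      rw [← orderOf_dvd_iff_pow_eq_one]; rcases ty4 hG hr with e | e | e <;> rw [e] <;> norm_num) (D.hY r)
    rw [D.dφ] at this
    rcases mul_eq_zero.1 (show D.Y r * (D.Y r + 1) = 0 by linear_combination e) with f | f <;> omega
  have h14 : ∀ r ∈ T G 4, D.X r = 0 := fun r hr => by
    rw [D.rel r (by rcases ty4 hG hr with e | e | e <;> rw [e] <;> norm_num), h13 r hr]; rfl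
  rw [sum_congr rfl h13, sum_const, nsmul_eq_mul] at h1
  have h15 := D.split (fun g => D.X g * D.X g) (a := 1) (b := 16) (fun g h => by simp [(D.v13 g h).1])
    fun g h => by simp [D.rel g (by omega), D.inv g h]
  rw [sum_int_inner D.hX D.hX (n := 1) (by simp [D.χ.2.classInner_self]),
    sum_eq_zero fun g (hg : g ∈ T G 4) => by rw [h14 g hg, mul_zero], D.one_vals.1, hG] at h15
  refine ⟨by rw [h12] at h8; omega, eq_of_subset_of_card_le
    (fun g hg => mem3.2 (orderOf_isConj (mem_cl.1 hg) ▸ ht)) (by omega), h11, by omega, h14, by omega⟩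

theorem a8 {v : G} (hv : orderOf v = 3) {U : Subgroup G} (hU : Nat.card U = 8)
    (h : ∀ u ∈ U, Commute u v) : False := by
  classical
  obtain ⟨t, ht, -⟩ := exists_central_invol (G := G) (a := 1) (by norm_num) (by rw [hG]; norm_num)
  have key : ∀ (W : Subgroup G) (k : ℕ), Nat.card W = 2 ^ k → (∀ u ∈ W, Commute u v) →
      (2 ^ k : ℤ) ∣ D.X v - 1 := fun W k hW hc => by
    have := card_dvd_sum D.χ.2.isCharacter W (centralizer_le_normalizer _ fun a ha => hc a ha)
      (n := D.X v - 1 + Nat.card W) (by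
        rw [← add_sum_erase _ _ (mem_univ 1), sum_congr rfl (g := fun _ => 1) fun a ha => ?_]
        · simp [D.hX, Nat.cast_pred Fintype.card_pos]; ring
        have h7 : orderOf (a : G) ≠ 1 := by simpa using ha
        have h8 := W.orderOf_dvd_natCard a.2
        rw [hW] at h8
        have h9 := (hc a a.2).orderOf_mul_eq_mul_orderOf_of_coprime (by
          rw [hv]; exact Nat.Coprime.coprime_dvd_left h8 (Nat.Coprime.pow_left _ (by norm_num)))
        obtain ⟨j, -, hj⟩ := (Nat.dvd_prime_pow Nat.prime_two).1 h8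
        have h10 : 2 ∣ orderOf (a : G) := hj ▸ dvd_pow_self 2 (by rintro rfl; exact h7 hj)
        rw [D.hX, D.rel _ (h9 ▸ h10.mul_right _), D.Y3 hG (h9 ▸ hv ▸ dvd_mul_left _ _)]; simp)
    rw [hW] at this
    push_cast at this
    exact (dvd_add_left dvd_rfl).1 this
  have h1 := key U 3 hU h
  have h2 := int_congr D.χ.2.isCharacter Nat.prime_three (k := 1) (v := v)
    (by rw [pow_one, ← hv, pow_orderOf_eq_one]) (D.hX v)
  rw [D.dχ] at h2
  have h3 : ((cl v).card : ℤ) * (D.X v * D.X v) ≤ 1872 := by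
    rw [← (D.main hG ht).2.2.2.2.2, ← sum_cl (F := fun g => D.X g * D.X g) fun g hg => by
      rw [int_conj D.hX hg]]
    exact sum_le_sum_of_subset_of_nonneg
      (fun g hg => D.mem2.2 (by rw [← orderOf_isConj (mem_cl.1 hg), hv])) fun _ _ _ => mul_self_nonneg _
  have h4 := cc_mul_cl v
  have h5 : cc v ∣ 432 := (by decide +kernel : ∀ d ∈ Nat.divisors 5616, ¬ 13 ∣ d → d ∣ 432) _
    (Nat.mem_divisors.mpr ⟨hG ▸ cc_dvd v, by norm_num⟩) (D.no13 (by omega) (by rintro rfl; simp at hv))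
  rw [hG] at h4
  have h6 := Nat.le_of_dvd (by norm_num) h5
  have h7 : 13 ≤ (cl v).card := by nlinarith
  have h8 : D.X v * D.X v ≤ 144 := by
    have : (13 : ℤ) ≤ (cl v).card := by exact_mod_cast h7
    nlinarith [mul_self_nonneg (D.X v)]
  have h9 : D.X v = 9 := by
    have := abs_le_of_sq_le_sq' (a := D.X v) (b := 12) (by rw [sq]; omega) (by norm_num)
    omega
  rw [h9] at h3
  have h10 : (cl v).card ≤ 23 := by omega
  have h11 : 2 ^ 4 ∣ cc v := (by decide +kernel : ∀ d ∈ Nat.divisors 432, 217 ≤ d → 2 ^ 4 ∣ d) _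
    (Nat.mem_divisors.mpr ⟨h5, by norm_num⟩) (by nlinarith)
  haveI := Fact.mk Nat.prime_two
  obtain ⟨P, hP⟩ := Sylow.exists_subgroup_card_pow_prime (G := centralizer ({v} : Set G)) 2 h11
  have := key (P.map (Subgroup.subtype _)) 4 (by rw [card_map_of_injective (subtype_injective _), hP]) (by
    rintro _ ⟨a, -, rfl⟩; exact mem_centralizer_singleton_iff.1 a.2)
  omega

theorem j4 {S : Subgroup G} (hS : Nat.card S = 16) : Set.ncard {s | s ∈ S ∧ s * s = 1} % 4 = 2 := by
  classical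
  obtain ⟨t, ht, -⟩ := exists_central_invol (G := G) (a := 1) (by norm_num) (by rw [hG]; norm_num)
  obtain ⟨m, -, hm⟩ := exists_sum_fs D.χ.2.isCharacter S (F := D.X) fun g _ => D.hX g
  have e : ∀ g ∈ fs S, D.X g = (if g = 1 then 8 else 0) + if g * g = 1 then 4 else 0 := fun g hg => by
    have h1 := S.orderOf_dvd_natCard (mem_fs.1 hg)
    rw [hS] at h1
    by_cases g1 : g = 1
    · simp [g1, D.one_vals.1]
    rw [if_neg g1, zero_add]
    split_ifs with g2
    · haveI := Fact.mk Nat.prime_two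
      have := orderOf_eq_prime ((sq g).trans g2) g1
      rw [D.rel g (by omega), D.inv g this]; rfl
    · refine (D.main hG ht).2.2.2.2.1 g (mem_T.2 ?_)
      have h2 : orderOf g ≠ 1 := by simpa using g1
      have h3 : orderOf g ≠ 2 := fun f => g2 (by rw [← sq, ← f, pow_orderOf_eq_one])
      have := Nat.le_of_dvd (by norm_num) h1
      rw [ty]; interval_cases orderOf g <;> simp_all
  rw [sum_congr rfl e, sum_add_distrib, sum_ite_eq', if_pos (mem_fs.2 (one_mem _)), ← sum_filter, sum_const,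
    hS] at hm
  rw [show {s | s ∈ S ∧ s * s = 1} = (((fs S).filter fun g => g * g = 1 : Finset G) : Set G) by
    ext; simp [mem_fs], Set.ncard_coe_finset]
  simp only [nsmul_eq_mul] at hm
  omega

theorem nn {t : G} (ht : orderOf t = 2) {S : Subgroup (centralizer ({t} : Set G))} (hS : Nat.card S = 16) :
    ¬ S.Normal := by
  classical
  intro hn
  obtain ⟨h1, h2, h3, h4, -⟩ := D.main hG ht
  have fib : ∀ u ∈ T G 3, ((T G 4).filter fun r => r ^ (orderOf r / 2) = u).card ≤ 16 := fun u hu => by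
    obtain ⟨g, rfl⟩ := isConj_iff.1 (mem_cl.1 (h2 ▸ hu))
    rw [← hS, ← card_map_of_injective (subtype_injective _), ← card_fs]
    refine card_le_card_of_injOn (fun r => g⁻¹ * r * g) (fun r hr => ?_) fun a _ b _ e => by simpa using e
    obtain ⟨r1, r2⟩ := mem_filter.1 hr
    have c : g⁻¹ * r * g ∈ centralizer ({t} : Set G) := by
      rw [mem_centralizer_singleton_iff]
      have := ((Commute.refl r).pow_right (orderOf r / 2)).eq
      rw [r2] at this
      calc g⁻¹ * r * g * t = g⁻¹ * (r * (g * t * g⁻¹)) * g := by group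
        _ = _ := by rw [this]; group
    refine mem_coe.2 (mem_fs.2 ⟨⟨_, c⟩, ?_, rfl⟩)
    have hi := S.card_mul_index
    rw [hS, show Nat.card (centralizer ({t} : Set G)) = 48 from h1] at hi
    have p3 := S.pow_index_mem ⟨_, c⟩
    rw [show S.index = 3 by omega] at p3
    refine (zpowers_le.2 p3) (mem_zpowers_pow_iff.2 ?_)
    rw [orderOf_mk, show g⁻¹ * r * g = g⁻¹ * r * g⁻¹⁻¹ by simp, ← orderOf_isConj (isConj_iff.2 ⟨_, rfl⟩)]
    rcases ty4 hG r1 with e | e | e <;> rw [e] <;> norm_num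
  have := card_eq_sum_card_fiberwise (s := T G 4) (t := T G 3) (f := fun r => r ^ (orderOf r / 2))
    fun r hr => mem_coe.2 (mem3.2 (by
      rcases ty4 hG hr with e | e | e <;> rw [orderOf_pow' _ (by omega), e] <;> rfl))
  have h5 := sum_le_card_nsmul _ _ _ fib
  rw [← this, h3, h4] at h5
  norm_num at h5

end LD

end Cfsg.Agent.DG6
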