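import Cfsg.Agent.CI.M
import Cfsg.Agent.H2.Prim
import Cfsg.Agent.H12.SmallRecog
import Cfsg.Agent.H11.SRank
import Cfsg.Agent.H1.Quaternion

/-! Recognition of `GL₂(3)` among the groups of order `48`. -/

set_option autoImplicit false

namespace Cfsg.Agent.DG6

open Cfsg Subgroup

theorem sq_const {H : Type*} [Group H] [Finite H] {Q : Subgroup H} [hn : Q.Normal] (h8 : Nat.card Q = 8) {z v : H}
    (hz : orderOf z = 2) (hc : ∀ g, g * z = z * g) (zQ : z ∈ Q) (v3 : v ^ 3 = 1)
    (hv : ∀ y ∈ Q, v * y = y * v → y ∈ zpowers z) :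
    ∃ w ∈ zpowers z, ∀ r ∈ Q, r ∉ zpowers z → r * r = w := by
  have z2 := H11.mul_self_of_orderOf_two hz
  have mz : ∀ {x}, x ∈ zpowers z ↔ x = 1 ∨ x = z := H11.mem_zpowers_invol z2
  have cz : ∀ x ∈ zpowers z, ∀ g, g * x = x * g := fun x hx g => by
    rcases mz.1 hx with rfl | rfl
    exacts [by simp, hc g]
  haveI : (zpowers z).Normal := ⟨fun x hx g => by rwa [cz x hx, mul_inv_cancel_right]⟩
  obtain ⟨a, a1, a2, a3⟩ := H11.exists_sq_mem_of_not_le (X := Q) (T := zpowers z) (IsPGroup.of_card (n := 3) h8)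
    fun e => by
      have := card_le_of_le e
      rw [h8, Nat.card_zpowers, hz] at this
      omega
  have k1 : ∀ y ∈ Q, y ∉ zpowers z → ((v * y * v⁻¹ : H) : H ⧸ zpowers z) ≠ y := fun y y1 y2 e => by
    rcases mz.1 (QuotientGroup.eq.1 e.symm) with e | e
    · exact y2 (hv y y1 (mul_inv_eq_iff_eq_mul.1 (inv_mul_eq_one.1 e).symm))
    · have e1 : v * y * v⁻¹ = y * z := inv_mul_eq_iff_eq_mul.1 e
      have e2 : v * (y * z) * v⁻¹ = y := by
        rw [← conj_mul, e1, hc v, mul_inv_cancel_right, mul_assoc, z2, mul_one]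
      have e3 : v ^ 3 * y * (v ^ 3)⁻¹ = v * (v * (v * y * v⁻¹) * v⁻¹) * v⁻¹ := by
        simp [pow_succ, mul_assoc]
      rw [e1, e2, e1, v3, one_mul, inv_one, mul_one] at e3
      exact H11.ne_one_of_orderOf_two hz (left_eq_mul.1 e3)
  have k2 : ∀ y, y ∉ zpowers z → v * y * v⁻¹ ∉ zpowers z := fun y y2 e =>
    y2 (by simpa [mul_assoc] using Normal.conj_mem inferInstance _ e v⁻¹)
  have k3 : ∀ y, y * y = a * a → v * y * v⁻¹ * (v * y * v⁻¹) = a * a := fun y e => by
    rw [conj_mul, e, cz _ a3, mul_inv_cancel_right]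
  have b1 := hn.conj_mem a a1 v
  have c1 := hn.conj_mem _ b1 v
  have b2 := k2 a a2
  have c2 := k2 _ b2
  have n1 := k1 a a1 a2
  have n2 := k1 _ b1 b2
  have n3 := k1 _ c1 c2
  have b3 := k3 a rfl
  have c3 := k3 _ b3
  rw [show v * (v * (v * a * v⁻¹) * v⁻¹) * v⁻¹ = v ^ 3 * a * (v ^ 3)⁻¹ by simp [pow_succ, mul_assoc], v3, one_mul, inv_one,
    mul_one] at n3
  generalize v * (v * a * v⁻¹) * v⁻¹ = c at *
  generalize v * a * v⁻¹ = b at *
  have c4 : Nat.card (Q.map (QuotientGroup.mk' (zpowers z))) = 4 := by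
    have := H11.card_mul_relIndex (zpowers_le.2 zQ)
    rw [← relIndex_ker, QuotientGroup.ker_mk']
    rw [h8, Nat.card_zpowers, hz] at this
    omega
  have q1 : ∀ {y : H}, y ∉ zpowers z → (1 : H ⧸ zpowers z) ≠ y := fun h e => h ((QuotientGroup.eq_one_iff _).1 e.symm)
  have e : ({1, (a : H ⧸ zpowers z), (b : H ⧸ zpowers z), (c : H ⧸ zpowers z)} : Set (H ⧸ zpowers z)) =
      Q.map (QuotientGroup.mk' (zpowers z)) := Set.eq_of_subset_of_ncard_le (by
    rintro _ (rfl | rfl | rfl | rfl)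
    exacts [one_mem _, ⟨a, a1, rfl⟩, ⟨b, b1, rfl⟩, ⟨c, c1, rfl⟩]) (by
      rw [Set.ncard_insert_of_notMem (by simp [q1 a2, q1 b2, q1 c2]),
        Set.ncard_insert_of_notMem (by simp [n1.symm, n3]), Set.ncard_pair n2.symm]
      exact ((Nat.card_coe_set_eq _).symm.trans c4).le)
  have k4 : ∀ r y : H, (r : H ⧸ zpowers z) = y → y * y = a * a → r * r = a * a := fun r y e e' => by
    rcases mz.1 (QuotientGroup.eq.1 e.symm) with e | e
    · rwa [← inv_mul_eq_one.1 e]
    · rw [inv_mul_eq_iff_eq_mul.1 e, mul_assoc, ← mul_assoc z, ← hc y, mul_assoc, z2, mul_one, e']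
  refine ⟨a * a, a3, fun r r1 r2 => ?_⟩
  rcases e.ge ⟨r, r1, rfl⟩ with e | e | e | e
  exacts [absurd e.symm (q1 r2), k4 r a e rfl, k4 r b e b3, k4 r c e c3]

theorem gl48 {H : Type*} [Group H] [Finite H] (h48 : Nat.card H = 48) {z : H} (hz : orderOf z = 2)
    (hc : ∀ g, g * z = z * g)
    (a8 : ∀ v : H, orderOf v = 3 → ∀ U : Subgroup H, Nat.card U = 8 → ¬ ∀ u ∈ U, u * v = v * u)
    (nn : ∀ S : Subgroup H, Nat.card S = 16 → ¬ S.Normal)
    (j4 : ∀ S : Subgroup H, Nat.card S = 16 → Set.ncard {s | s ∈ S ∧ s * s = 1} % 4 = 2)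
    (ex : ∃ u : H, u * u = 1 ∧ u ≠ 1 ∧ u ≠ z) : Nonempty (H ≃* GL (Fin 2) (ZMod 3)) := by
  haveI : Fact (Nat.Prime 2) := ⟨Nat.prime_two⟩
  haveI : Fact (Nat.Prime 3) := ⟨Nat.prime_three⟩
  have z2 := H11.mul_self_of_orderOf_two hz
  have z1 := H11.ne_one_of_orderOf_two hz
  have mz : ∀ {x}, x ∈ zpowers z ↔ x = 1 ∨ x = z := H11.mem_zpowers_invol z2
  let P : Sylow 2 H := default
  have c16 : Nat.card (P : Subgroup H) = 16 := by
    rw [P.card_eq_multiplicity, h48, show 48 = 2 ^ 4 * 3 from rfl, Nat.factorization_mul (by decide) (by decide),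
      Nat.prime_two.factorization_pow, Nat.prime_three.factorization]
    simp
  have hle : ∀ N : Subgroup H, N.Normal → IsPGroup 2 N → N ≤ (P : Subgroup H).normalCore := fun N _ h =>
    normal_le_normalCore.2 (h.le_sylow_of_normal P)
  have h16 := nn _ c16
  have hj := j4 _ c16
  have QS := (P : Subgroup H).normalCore_le
  have i6 := H12.index_normalCore_dvd (P : Subgroup H)
  haveI hn := (P : Subgroup H).normalCore_normal
  generalize (P : Subgroup H).normalCore = Q at *
  generalize (P : Subgroup H) = S at *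
  have i3 : S.index = 3 := by have := S.card_mul_index; rw [c16, h48] at this; omega
  have i2 : Q.relIndex S = 2 := by
    have a1 := relIndex_mul_index QS
    have a2 : Q.relIndex S ≠ 1 := fun e => h16 (le_antisymm QS (relIndex_eq_one.1 e) ▸ hn)
    have a3 : Q.relIndex S ≠ 0 := index_ne_zero_of_finite
    rw [← a1, i3] at i6
    have := Nat.le_of_dvd (by decide) i6
    simp only [Nat.factorial] at this
    omega
  have h8 : Nat.card Q = 8 := by have := H11.card_mul_relIndex QS; rw [i2] at this; omega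
  have zQ : z ∈ Q := hle (zpowers z) ⟨fun x hx g => by
    rcases mz.1 hx with rfl | rfl
    exacts [by simp, by rwa [hc, mul_inv_cancel_right]]⟩
      (IsPGroup.of_card (n := 1) (by rw [Nat.card_zpowers, hz, pow_one])) (mem_zpowers z)
  obtain ⟨v, hv⟩ := exists_prime_orderOf_dvd_card' (G := H) 3 (by rw [h48]; decide)
  obtain ⟨w, w1, hw⟩ := sq_const h8 hz hc zQ (hv ▸ pow_orderOf_eq_one v) fun y y1 y2 => by
    have a1 := H2.card_modEq_card_inf_centralizer (q := 3) (Q := zpowers v) (V := Q)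
      (IsPGroup.of_card (n := 1) (by rw [Nat.card_zpowers, hv, pow_one])) (by rw [normalizer_eq_top]; exact le_top)
    have m : ∀ x ∈ Q, v * x = x * v → x ∈ Q ⊓ centralizer (zpowers v : Set H) := fun x x1 x2 => ⟨x1, by
      rintro _ ⟨i, rfl⟩
      exact (Commute.zpow_left x2 i).eq⟩
    by_contra y3
    have a2 := H11.two_mul_card_le_of_lt (zpowers_le.2 (m z zQ (hc v))) (m y y1 y2) y3
    have a3 := card_dvd_of_le (inf_le_left : Q ⊓ centralizer (zpowers v : Set H) ≤ Q)
    have a4 := a8 v hv (Q ⊓ centralizer (zpowers v : Set H))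
    rw [Nat.card_zpowers, hz] at a2
    rw [h8] at a1 a3
    have a5 := Nat.le_of_dvd (by decide) a3
    refine a4 ?_ fun u hu => (hu.2 v (mem_zpowers v)).symm
    generalize Nat.card (Q ⊓ centralizer (zpowers v : Set H) : Subgroup H) = n at *
    interval_cases n <;> simp_all [Nat.ModEq]
  rcases mz.1 w1 with rfl | rfl
  · exfalso
    have hE : ∀ q ∈ Q, q * q = 1 := fun q hq => by
      by_cases h : q ∈ zpowers z
      · rcases mz.1 h with rfl | rfl
        exacts [by simp, z2]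
      · exact hw q hq h
    have n8 : (Q : Set H).ncard = 8 := (Nat.card_coe_set_eq _).symm.trans h8
    by_cases h : ∀ s ∈ S, s * s = 1 → s ∈ Q
    · rw [show {s | s ∈ S ∧ s * s = 1} = (Q : Set H) from Set.ext fun s =>
        ⟨fun e => h s e.1 e.2, fun e => ⟨QS e, hE s e⟩⟩, n8] at hj
      omega
    push Not at h
    obtain ⟨s, s1, s2, s3⟩ := h
    have si : s⁻¹ = s := inv_eq_of_mul_eq_one_right s2
    have e : {s | s ∈ S ∧ s * s = 1} = (Q : Set H) ∪ (· * s) '' (Q ⊓ centralizer {s} : Subgroup H) := by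
      ext x
      constructor
      · rintro ⟨x1, x2⟩
        refine or_iff_not_imp_left.2 fun x3 => ⟨x * s, ⟨?_, mem_centralizer_singleton_iff.2 ?_⟩, by simp [mul_assoc, s2]⟩
        · exact (mul_mem_iff_of_index_two i2 (a := ⟨x, x1⟩) (b := ⟨s, s1⟩)).2
            ⟨fun e => absurd e x3, fun e => absurd e s3⟩
        · have := hE _ ((mul_mem_iff_of_index_two i2 (a := ⟨x, x1⟩) (b := ⟨s, s1⟩)).2
            ⟨fun e => absurd e x3, fun e => absurd e s3⟩)
          change x * s * (x * s) = 1 at this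
          rw [mul_assoc, s2, mul_one]
          calc x = x * (x * s * (x * s)) := by rw [this, mul_one]
            _ = x * x * (s * (x * s)) := by group
            _ = _ := by rw [x2, one_mul]
      · rintro (hx | ⟨q, hq, rfl⟩)
        · exact ⟨QS hx, hE x hx⟩
        · refine ⟨mul_mem (QS hq.1) s1, ?_⟩
          show q * s * (q * s) = 1
          rw [mul_assoc, ← mul_assoc s, ← mem_centralizer_singleton_iff.1 hq.2, mul_assoc, s2, mul_one, hE q hq.1]
    rw [e, Set.ncard_union_eq (Set.disjoint_left.2 (by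
      rintro _ hx ⟨q, hq, rfl⟩
      exact s3 ((Q.mul_mem_cancel_left hq.1).1 hx))), n8, Set.ncard_image_of_injective _ (mul_left_injective s),
      ← Nat.card_coe_set_eq] at hj
    obtain ⟨K, k1, -, k2⟩ := H11.exists_comm_sub hE (t := s) (by rw [normalizer_eq_top]; trivial)
      fun e _ => by rw [s2, one_mul, mul_one]
    have k3 := card_le_of_le k1
    have k4 := card_dvd_of_le (inf_le_left : Q ⊓ centralizer {s} ≤ Q)
    rw [h8] at k2 k4
    have k5 := Nat.le_of_dvd (by decide) k4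
    change (8 + Nat.card (Q ⊓ centralizer {s} : Subgroup H)) % 4 = 2 at hj
    generalize Nat.card (Q ⊓ centralizer {s} : Subgroup H) = n at *
    interval_cases n <;> omega
  have hi : ∀ q ∈ Q, q * q = 1 → q ∈ zpowers w := fun q hq e => by
    by_contra h
    exact z1 ((hw q hq h).symm.trans e)
  rcases H1.isCyclic_or_quaternion (G := Q) (p := 2) (IsPGroup.of_card (n := 3) h8) (fun x y hx hy => by
    have x2 : x * x = 1 := H11.mul_self_of_orderOf_two hx
    have e : x.1 = w := (mz.1 (hi x x.2 (congrArg Subtype.val x2))).resolve_left fun e =>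
      H11.ne_one_of_orderOf_two hx (Subtype.ext e)
    obtain ⟨i, hi⟩ := hi y y.2 (by rw [← sq]; exact congrArg Subtype.val hy)
    exact ⟨i, Subtype.ext (by rw [← hi, ← e]; rfl)⟩) with h | ⟨-, n, -, ⟨e⟩⟩
  · exfalso
    obtain ⟨g, hg⟩ := IsCyclic.exists_ofOrder_eq_natCard (α := Q)
    have : orderOf g ∣ 4 := orderOf_dvd_of_pow_eq_one (Subtype.ext (by
      show g.1 ^ 4 = 1
      rw [show g.1 ^ 4 = g.1 * g.1 * (g.1 * g.1) by simp [pow_succ, mul_assoc]]
      by_cases h : g.1 ∈ zpowers w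
      · rcases mz.1 h with e | e <;> simp [e, z2]
      · rw [hw _ g.2 h, z2]))
    rw [hg, h8] at this
    exact absurd this (by decide)
  obtain rfl : n = 1 := by
    have := Nat.card_congr e.toEquiv
    rw [h8, Nat.card_eq_fintype_card, QuaternionGroup.card] at this
    exact Nat.pow_right_injective le_rfl (show 2 ^ n = 2 ^ 1 by omega)
  let ι : QuaternionGroup 2 →* H := Q.subtype.comp e.symm.toMonoidHom
  have hι : ι.range = Q := by
    rw [MonoidHom.range_comp, MonoidHom.range_eq_top.2 e.symm.surjective, ← MonoidHom.range_eq_map, range_subtype]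
  haveI : ι.range.Normal := hι ▸ hn
  obtain ⟨ρ, h⟩ := CI.exists_fr (ι := ι) (Q.subtype_injective.comp e.symm.injective) (by
    rw [hι]
    refine hle _ inferInstance ?_
    have a1 : ¬ 3 ∣ Nat.card (centralizer (Q : Set H)) := fun e => by
      obtain ⟨x, hx⟩ := exists_prime_orderOf_dvd_card' 3 e
      exact a8 x (by rwa [orderOf_coe]) Q h8 x.2
    have a2 := card_subgroup_dvd_card (centralizer (Q : Set H))
    rw [h48, show 48 = 2 ^ 4 * 3 from rfl] at a2
    obtain ⟨k, -, a3⟩ := (Nat.dvd_prime_pow Nat.prime_two).1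
      (((Nat.prime_three.coprime_iff_not_dvd.2 a1).symm).dvd_of_dvd_mul_right a2)
    exact IsPGroup.of_card a3)
  obtain ⟨u, u1, u2, u3⟩ := ex
  exact h.gl h48 u1 fun e => (mz.1 (hi u (hι ▸ e) u1)).elim u2 u3

end Cfsg.Agent.DG6
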