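import Cfsg.Agent.DG6.U1
import Cfsg.Agent.DG6.U2
import Cfsg.Agent.H19.W5

/-! Simple groups of order 5616 are isomorphic to PSL(3,3) -/

set_option autoImplicit false

namespace Cfsg.Agent.DG6

open Cfsg Cfsg.Agent.H19 Subgroup MatrixGroups

theorem psl33 {G : Type*} [Group G] [Finite G] [IsSimpleGroup G] (hG : Nat.card G = 5616) :
    Nonempty (G ≃* PSL(3, ZMod 3)) := by
  classical
  haveI := Fintype.ofFinite G
  haveI := Fact.mk Nat.prime_two
  have hc : ¬ IsMulCommutative G := not_comm_of_card_not_prime (by rw [hG]; norm_num)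
  obtain ⟨D⟩ := nonempty_LD hG
  obtain ⟨t, ht, -⟩ := exists_central_invol (G := G) (a := 1) (by norm_num) (by rw [hG]; norm_num)
  have h48 : Nat.card (centralizer ({t} : Set G)) = 48 := (D.main hG ht).1
  let z : centralizer ({t} : Set G) := ⟨t, mem_centralizer_singleton_iff.2 rfl⟩
  have hz : orderOf z = 2 := (orderOf_mk _ _).trans ht
  obtain ⟨e⟩ := gl48 h48 hz (fun g => Subtype.ext (mem_centralizer_singleton_iff.1 g.2))
    (fun v hv U hU h => D.a8 hG (v := v) ((orderOf_coe v).trans hv) (U := U.map (Subgroup.subtype _))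
      (by rw [card_map_of_injective (subtype_injective _), hU]) (by
        rintro _ ⟨u, hu, rfl⟩; exact congrArg Subtype.val (h u hu)))
    (fun S hS => D.nn hG ht hS) (fun S hS => by
      rw [← D.j4 hG (S := S.map (Subgroup.subtype _))
        (by rw [card_map_of_injective (subtype_injective _), hS]),
        ← Set.ncard_image_of_injective _ Subtype.val_injective]
      congr 2
      ext s
      constructor
      · rintro ⟨a, ⟨h1, h2⟩, rfl⟩; exact ⟨⟨a, h1, rfl⟩, congrArg Subtype.val h2⟩
      · rintro ⟨⟨a, h1, rfl⟩, h2⟩; exact ⟨a, ⟨h1, Subtype.ext h2⟩, rfl⟩) (by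
      obtain ⟨S, hS⟩ := (IsPGroup.of_card (p := 2) (n := 1) ((Nat.card_zpowers z).trans hz)).exists_le_sylow
      have cS : Nat.card ((S : Subgroup (centralizer ({t} : Set G))).map (Subgroup.subtype _)) =
          2 ^ (Nat.card G).factorization 2 := by
        rw [card_map_of_injective (subtype_injective _), S.card_eq_multiplicity, h48, hG]
        decide +kernel
      obtain ⟨g, ⟨u, -, hu⟩, h2⟩ := exists_conj_ne hc (Sylow.ofCard _ cS) ht ⟨z, hS (mem_zpowers z), rfl⟩
      have o : orderOf u = 2 := by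
        rw [← orderOf_coe, show (u : G) = g * t * g⁻¹ from hu, ← orderOf_isConj (isConj_iff.2 ⟨g, rfl⟩), ht]
      exact ⟨u, by rw [← sq, ← o, pow_orderOf_eq_one], by rintro rfl; simp at o,
        fun f => h2 (hu.symm.trans (congrArg Subtype.val f))⟩)
  obtain ⟨f, h⟩ := exists_WG ht e fun K hK => by
    rcases (normal_of_index_eq_two hK).eq_bot_or_eq_top with rfl | rfl
    · rw [index_bot] at hK; omega
    · simp at hK
  exact h.psl3 hG

end Cfsg.Agent.DG6
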